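import Mathlib
import Cfsg.Agent.Base
import Cfsg.Agent.Lib.Ord.CharAux

/-! Character tools for small orders; no simple groups of order 1404, 1512. -/

set_option autoImplicit false
set_option linter.unusedSectionVars false
set_option linter.style.haveILetI false

open Cfsg Subgroup H17.Ord
open scoped ComplexConjugate

namespace H8.Dg

variable {G : Type*} [Group G] [Finite G]

theorem hna_of (hG : ¬ IsMulCommutative G) : ∃ a b : G, a * b ≠ b * a := by
  by_contra h; push Not at h; exact hG ⟨⟨h⟩⟩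

/-- a self-centralising Sylow subgroup of prime order and its principal block -/
theorem blk [IsSimpleGroup G] (hG : ¬ IsMulCommutative G) (p : ℕ) [hp : Fact p.Prime] (hp2 : p ≠ 2)
    {m : ℕ} (hn : Nat.card G = p * m) (hm : ¬ p ∣ m) (e : ℕ) (Ls : List (List ℤ))
    (h : H4.Sv.chkOne (Nat.card G) p (fun _ e' c l => e' == e && c == 1 && Ls.contains l) = true) :
    ∃ P : Subgroup G, Nat.card P = p ∧ centralizer (P : Set G) = P ∧
      Nat.card (normalizer (P : Set G)) = p * e ∧ Nonempty (PB G p P e) ∧ ∃ l ∈ Ls,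
        ∀ d, d ≠ 1 → ¬ p ∣ d → cnt (G := G) Finset.univ d = H4.Sv.cntDeg p e l d := by
  classical
  obtain ⟨P, hP⟩ := exists_subgroup_prime p (Dvd.intro _ hn.symm)
  obtain ⟨e', k, n, h1, h2, -, -, -, -, -, -, ⟨B⟩⟩ := setup (hna_of hG) p hn hm P hP
  obtain ⟨c, l, h3, h4, h5⟩ := sieve_PB (hna_of hG) hp2 B h
  simp only [Bool.and_eq_true, beq_iff_eq, List.contains_iff_mem] at h3
  obtain ⟨⟨rfl, rfl⟩, h3⟩ := h3
  have hC := selfcent_of_card hP (by rw [h4, mul_one])
  obtain rfl : k = 1 := Nat.eq_of_mul_eq_mul_left hp.out.pos (h1.symm.trans h4)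
  refine ⟨P, hP, hC, by rw [h2, mul_one], ⟨B⟩, l, h3, fun d hd hd' => ?_⟩
  rw [← h5 d hd]
  exact cnt_congr fun χ e => by simpa using B.mem_of_not_dvd hC (e ▸ hd')

open Classical in
theorem split [IsSimpleGroup G] (hG : ¬ IsMulCommutative G) {A : Type*} [AddCommMonoid A]
    {a b : IrrCharacter G} {p d : ℕ} (ha : ∀ ψ, dg ψ = dg a → ψ = a) (hb : ∀ ψ, dg ψ = dg b → ψ = b)
    (hall : ∀ χ : IrrCharacter G, ¬ p ∣ dg χ → dg χ = 1 ∨ dg χ = dg a ∨ dg χ = dg b ∨ dg χ = d)
    (hnd : [1, dg a, dg b, d].Nodup) (hp : ∀ x ∈ [1, dg a, dg b, d], ¬ p ∣ x)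
    (f : IrrCharacter G → A) :
    ∑ χ, f χ = f (triv G) + f a + f b + ∑ χ ∈ Finset.univ.filter (dg · = d), f χ +
      ∑ χ ∈ Finset.univ.filter (p ∣ dg ·), f χ := by
  simp only [List.nodup_cons, List.mem_cons, List.not_mem_nil, or_false, not_or, forall_eq_or_imp,
    forall_eq] at hnd hp
  have : (Finset.univ : Finset (IrrCharacter G)) = insert (triv G) (insert a (insert b
      (Finset.univ.filter (dg · = d) ∪ Finset.univ.filter (p ∣ dg ·)))) := by
    symm
    refine Finset.eq_univ_of_forall fun χ => ?_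
    simp only [Finset.mem_insert, Finset.mem_union, Finset.mem_filter, Finset.mem_univ, true_and]
    by_cases h : p ∣ dg χ
    · tauto
    · rcases hall χ h with e | e | e | e
      · exact Or.inl (eq_triv_of_dg (hna_of hG) e)
      · exact Or.inr (Or.inl (ha χ e))
      · exact Or.inr (Or.inr (Or.inl (hb χ e)))
      · tauto
  conv_lhs => rw [this]
  rw [Finset.sum_insert, Finset.sum_insert, Finset.sum_insert, Finset.sum_union]
  · simp only [add_assoc]
  · exact Finset.disjoint_filter.2 fun χ _ e h => hp.2.2.2 (e ▸ h)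
  · simp [hnd.2.2.1, hp.2.2.1]
  · have : a ≠ b := fun e => hnd.2.1.1 (by rw [e])
    simp [this, hnd.2.1.2, hp.2.1]
  · have h1 : triv G ≠ a := fun e => hnd.1.1 (by rw [← e, dg_triv])
    have h2 : triv G ≠ b := fun e => hnd.1.2.1 (by rw [← e, dg_triv])
    simp [h1, h2, dg_triv, hnd.1.2.2, hp.1]

theorem not_dvd_cent {p : ℕ} [hp : Fact p.Prime] {P : Subgroup G} (hP : Nat.card P = p)
    (hi : ¬ p ∣ P.index) (hC : centralizer (P : Set G) = P) {x : G} (h1 : x ≠ 1)
    (hx : ¬ p ∣ orderOf x) : ¬ p ∣ Nat.card (centralizer ({x} : Set G)) := by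
  intro h
  obtain ⟨z, hz⟩ := exists_prime_orderOf_dvd_card' p h
  have hz' : orderOf (z : G) = p := by rw [orderOf_coe, hz]
  have hc : Commute (z : G) x := mem_centralizer_singleton_iff.1 z.2
  have ho := hc.orderOf_mul_eq_mul_orderOf_of_coprime
    (by rw [hz']; exact (Nat.Prime.coprime_iff_not_dvd hp.out).2 hx)
  have := orderOf_eq_of_selfcent hP hi hC (g := z * x) (by rw [ho, hz']; exact dvd_mul_right _ _)
  rw [ho, hz'] at this
  exact h1 (orderOf_eq_one_iff.1 ((Nat.mul_eq_left hp.out.ne_zero).1 this))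

theorem not_real {x : G} (hx : x * x ≠ 1)
    (ho : Odd (Nat.card (normalizer ((zpowers x : Subgroup G) : Set G)))) : ¬ IsConj x x⁻¹ := by
  intro h
  obtain ⟨g, hg⟩ := isConj_iff.1 h
  have h1 : g ∈ normalizer ((zpowers x : Subgroup G) : Set G) := by
    refine mem_normalizer_fintype fun n hn => ?_
    obtain ⟨k, rfl⟩ := hn
    rw [← conj_zpow, hg]
    exact zpow_mem (inv_mem (mem_zpowers x)) k
  obtain ⟨j, hj⟩ := ho
  have h2 : g ^ (2 * j + 1) = 1 := by
    rw [← hj]; exact congrArg Subtype.val (pow_card_eq_one' (x := (⟨g, h1⟩ : normalizer _)))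
  have h3 : ∀ k, g ^ (2 * k) * x * (g ^ (2 * k))⁻¹ = x := fun k => by
    induction k with
    | zero => simp
    | succ k ih =>
      calc _ = g ^ (2 * k) * (g * (g * x * g⁻¹) * g⁻¹) * (g ^ (2 * k))⁻¹ := by group
        _ = _ := by rw [hg, ← conj_inv, hg, inv_inv, ih]
  have h4 := h3 (j + 1)
  rw [show 2 * (j + 1) = 2 * j + 1 + 1 by ring, pow_succ, h2, one_mul, hg] at h4
  exact hx (by nth_rw 1 [← h4]; simp)

open Classical in
/-- number of factorisations of an involution into two conjugates -/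
noncomputable def pairN (t : G) : ℕ := Nat.card {u : G // IsConj t u ∧ IsConj t (u⁻¹ * t)}

theorem pairN_eq {t : G} (ht : t * t = 1) {u : IrrCharacter G → ℤ}
    (hu : ∀ χ : IrrCharacter G, (χ : G → ℂ) t = u χ) :
    (pairN t : ℚ) = ((centralizer ({t} : Set G)).index : ℚ) ^ 2 / Nat.card G *
      ∑ χ : IrrCharacter G, (u χ : ℚ) ^ 3 / dg χ := by
  classical
  haveI := Fintype.ofFinite G
  have e := H36.pairFun_eq_sum ht t
  rw [H36.pairFun_eq_card] at e
  simp only [hu, dg_cast] at e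
  rw [pairN, Nat.card_eq_fintype_card, Fintype.card_subtype]
  apply Rat.cast_injective (α := ℂ)
  push_cast
  convert e using 3
  ring

theorem pair_comm {t u : G} (ht : t * t = 1) (h1 : IsConj t u) (h2 : IsConj t (u⁻¹ * t)) :
    u * t = t * u := by
  have k1 := H33.mul_self_of_isConj ht h1
  have k2 := H33.mul_self_of_isConj ht h2
  rw [inv_eq_of_mul_eq_one_right k1] at k2
  rw [← inv_eq_of_mul_eq_one_right k2, mul_inv_rev, inv_eq_of_mul_eq_one_right k1,
    inv_eq_of_mul_eq_one_right ht]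

theorem pairN_le {t : G} (ht : t * t = 1) : pairN t ≤ Nat.card (centralizer ({t} : Set G)) :=
  Nat.card_le_card_of_injective
    (fun u => ⟨u.1, mem_centralizer_singleton_iff.2 (pair_comm ht u.2.1 u.2.2)⟩)
    fun _ _ h => Subtype.ext (by simpa using h)

instance fact7 : Fact (Nat.Prime 7) := ⟨by norm_num⟩
instance fact13 : Fact (Nat.Prime 13) := ⟨by norm_num⟩

theorem card_ne_1404 [IsSimpleGroup G] (hG : ¬ IsMulCommutative G) : Nat.card G ≠ 1404 := by
  intro hn
  obtain ⟨P, hP, hC, -, ⟨B⟩, l, hl, h⟩ := blk hG 13 (by norm_num) (m := 108) hn (by norm_num) 4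
    [[-12, -12, 27]] (by rw [hn]; decide +kernel)
  obtain rfl := List.mem_singleton.1 hl
  obtain ⟨χ, -, hχ⟩ := cnt_pos.1 (show 0 < cnt (G := G) Finset.univ 4 by
    rw [h 4 (by norm_num) (by norm_num)]; decide)
  have hY : ∀ ψ : IrrCharacter G, dg ψ = 4 → ψ ∈ B.Y := fun ψ e =>
    (B.mem_of_not_dvd hC (by rw [e]; norm_num)).resolve_left fun h => by
      have := B.modX h; omega
  obtain ⟨S⟩ : Nonempty (Sylow 3 G) := inferInstance
  have hS : Nat.card (S : Subgroup G) = 27 :=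
    H36.card_sylow_eq_pow S (k := 3) (by rw [hn]; norm_num) (by rw [hn]; norm_num)
  have h1 : (χ : G → ℂ) 1 = 4 := by rw [dg_cast, hχ]; rfl
  have hne : χ ≠ triv G := fun e => by rw [e, dg_triv] at hχ; omega
  have hg := H84.irr_gen χ
  have hψ : IsGeneralizedCharacter G (((χ : G → ℂ) - fun _ => 1) *
      ((χ : G → ℂ) + ((2 : ℤ) : ℂ) • fun _ => 1)) :=
    H6.isGen_mul (H6.isGen_sub hg H6.isGen_one) (H6.isGen_add hg (H6.isGen_intCast_smul _ H6.isGen_one))
  have := H4.int_dvd_of_vanish hψ (S : Subgroup G) (d := 18) (fun x hx hx1 => ?_)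
    (by simp [h1]; norm_num)
  · rw [hS] at this; norm_num at this
  · obtain ⟨k, hk⟩ := S.isPGroup' ⟨x, hx⟩
    have hk' : x ^ 3 ^ k = 1 := congrArg Subtype.val hk
    obtain ⟨z, hz⟩ := H8.exists_int_of_forall_ringEquiv (H6.char_isIntegral (irr_chr χ) x) fun σ =>
      B.regY ⟨_, H8.isIrrCharacter_ringEquiv_comp χ.2 σ⟩ (hY _ (by
        apply H87.deg_of_eq
        show σ ((χ : G → ℂ) 1) = _
        rw [h1]; simp [map_ofNat])) χ (hY χ hχ) x fun h => by
          have := (by norm_num : Nat.Prime 13).dvd_of_dvd_pow (h.trans (orderOf_dvd_of_pow_eq_one hk'))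
          omega
    have h2 := modEq_of_val (irr_chr χ) (p := 3) (k := k) (by norm_num) hk' hz
    have h3 := H6.char_norm_le (irr_chr χ) x
    rw [hz, h1, Complex.norm_intCast] at h3
    have h4 : |z| ≤ 4 := by
      have : ((|z| : ℤ) : ℝ) ≤ 4 := by push_cast; simpa using h3
      exact_mod_cast this
    have h5 : z ≠ 4 := by
      rintro rfl
      exact hx1 (eq_one_of_apply_eq hne (by rw [hz, hχ]; rfl))
    change (dg χ : ℤ) ≡ _ [ZMOD _] at h2
    rw [hχ] at h2
    have h6 : z = 1 ∨ z = -2 := by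
      rw [abs_le] at h4
      unfold Int.ModEq at h2
      push_cast at h2
      omega
    rcases h6 with rfl | rfl <;> simp [hz]

theorem card_ne_1512 [IsSimpleGroup G] (hG : ¬ IsMulCommutative G) : Nat.card G ≠ 1512 := by
  classical
  intro hn
  obtain ⟨P, hP, hC, -, ⟨B⟩, l, hl, h⟩ := blk hG 7 (by norm_num) (m := 216) hn (by norm_num) 6
    [[-27, 8, 8, 8, 8], [-27, 8, 8, 8, -6], [8, 8, 8, 8, -6]] (by rw [hn]; decide +kernel)
  have h' : ∀ d, d ≠ 1 → ¬ 7 ∣ d → cnt (G := G) Finset.univ d =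
      if d = 6 then 1 else if d = 27 then 1 else if d = 8 then 4 else 0 := fun d h1 h2 => by
    rw [h d h1 h2]
    simp only [List.mem_cons, List.not_mem_nil, or_false] at hl
    rcases hl with rfl | rfl | rfl <;> simp [H4.Sv.cntDeg, List.count_cons] <;> split_ifs <;> omega
  obtain ⟨a, -, da, ha⟩ := cnt_eq_one (h' 6 (by norm_num) (by norm_num))
  obtain ⟨b, -, db, hb⟩ := cnt_eq_one (h' 27 (by norm_num) (by norm_num))
  have hs := fun {A : Type} [AddCommMonoid A] (f : IrrCharacter G → A) =>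
    split hG (a := a) (b := b) (p := 7) (d := 8) (fun ψ e => ha ψ (by simp) (e.trans da))
      (fun ψ e => hb ψ (by simp) (e.trans db)) (fun χ hχ => by
        by_contra hc
        have := cnt_pos.2 ⟨χ, Finset.mem_univ _, rfl⟩
        rw [da, db] at hc
        push Not at hc
        rw [h' _ hc.1 hχ] at this
        simp [hc] at this) (by rw [da, db]; decide) (by rw [da, db]; decide) f
  obtain ⟨t, ht⟩ := exists_prime_orderOf_dvd_card' (G := G) 2 (by rw [hn]; norm_num)
  have ht2 : t * t = 1 := by rw [← sq, ← ht, pow_orderOf_eq_one]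
  have ht1 : t ≠ 1 := fun e => by simp [e] at ht
  choose u hu using fun χ : IrrCharacter G => (int_of_invol χ ht2).imp fun _ h => h.1
  have u1 : u (triv G) = 1 := by have := hu (triv G); rw [triv_apply] at this; exact_mod_cast this.symm
  have u8 : ∀ χ ∈ Finset.univ.filter (dg (G := G) · = 8), u χ = 0 := fun χ hχ => by
    have := van_of_pow_dvd (χ := χ) (p := 2) (k := 3) (by norm_num) (by rw [hn]; norm_num)
      (by rw [(Finset.mem_filter.1 hχ).2]; norm_num) (x := t) (by rw [ht])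
    rw [hu] at this; exact_mod_cast this
  set R := Finset.univ.filter (7 ∣ dg (G := G) ·) with hR
  obtain ⟨x, -, hx⟩ := B.exists_sing
  obtain ⟨Z, s, -, -, z1, z2, z3, -⟩ := B.full rfl
  have hxv : ∀ χ : IrrCharacter G, dg χ % 7 = 6 → (χ : G → ℂ) x = -1 := fun χ e => by
    have h1 := (z1 χ).2 (B.mem_of_not_dvd hC (by omega))
    rw [z3 χ h1 x (by rw [hx]), ((z2 χ h1).resolve_left fun h => by omega).1]; simp
  have e1 := H6.column_orthogonality_not_isConj (g := t) (h := x) fun hc => by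
    obtain ⟨k, rfl⟩ := isConj_iff.mp hc
    rw [H35.orderOf_conj, ht] at hx; omega
  rw [hs, Finset.sum_eq_zero fun χ hχ => by rw [hu, u8 χ hχ]; simp, Finset.sum_eq_zero fun χ hχ => by
    rw [van_of_dvd (by norm_num) B.not_sq_dvd (Finset.mem_filter.1 hχ).2 (x := x) (by rw [hx])]; simp,
    hxv a (by omega), hxv b (by omega), hu, hu, hu, u1, triv_apply] at e1
  have e1' : u b = 1 - u a := by
    have : (u b : ℂ) = 1 - u a := by simp at e1; linear_combination -e1
    exact_mod_cast this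
  have e2 := col_sum (g := t) (h := 1) (v := fun χ => dg χ) hu (fun χ => by rw [dg_cast]; simp)
    (by simpa using ht1)
  have e3 := col_sq hu
  have e4 := sum_dg_sq (G := G)
  have e5 := pairN_eq ht2 hu
  rw [hs, Finset.sum_eq_zero fun χ hχ => by rw [u8 χ hχ]; simp] at e2 e3 e5
  rw [hs, Finset.sum_congr rfl fun χ hχ => by rw [(Finset.mem_filter.1 hχ).2], Finset.sum_const,
    show (Finset.univ.filter (dg (G := G) · = 8)).card = 4 from h' 8 (by norm_num) (by norm_num)] at e4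
  simp only [u1, da, db, dg_triv, hn, e1'] at e2 e3 e4 e5
  have e4' : ∑ χ ∈ R, (dg χ : ℤ) ^ 2 = 490 := by
    have : ∑ χ ∈ R, dg χ ^ 2 = 490 := by simp at e4; omega
    exact_mod_cast this
  obtain ⟨z, z1, z2, z3, z4⟩ := invol_val (hna_of hG) (χ := a) (by omega) ht
  obtain rfl : z = u a := by rw [hu] at z1; exact_mod_cast z1.symm
  have e6 := dvd_central b (hu b)
  have e7 := not_dvd_cent hP B.ind hC ht1 (by rw [ht]; norm_num)
  have e8 := (centralizer ({t} : Set G)).card_mul_index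
  have e9 := pairN_le ht2
  rw [hn] at e8
  rw [da] at z2 z3 z4
  rw [db, e1'] at e6
  set c := Nat.card (centralizer ({t} : Set G))
  set i := (centralizer ({t} : Set G)).index
  have hc : c ∣ 1512 := Dvd.intro _ e8
  obtain h2 | h2 : u a = 2 ∨ u a = -2 := by omega
  · rw [h2] at e2 e3 e5 e6
    obtain ⟨j, hj⟩ : 27 ∣ i := by omega
    have h3 : c * j = 56 := by rw [hj] at e8; linarith
    have h4 : c ∣ 8 := (Nat.Coprime.dvd_of_dvd_mul_left
      ((Nat.Prime.coprime_iff_not_dvd (by norm_num)).2 e7).symm (Dvd.intro _ h3 : c ∣ 7 * 8))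
    have h5 := Nat.le_of_dvd (by norm_num) h4
    have h6 : 0 ≤ ∑ χ ∈ R, u χ ^ 2 := Finset.sum_nonneg fun _ _ => sq_nonneg _
    have h7 : c = 8 := by interval_cases c <;> omega
    have h8 : i = 189 := by rw [h7] at e8; omega
    have h9 : ∑ χ ∈ R, u χ ^ 2 = 2 := by omega
    have h10 : ∑ χ ∈ R, -((u χ : ℚ) ^ 2 / 7) ≤ ∑ χ ∈ R, (u χ : ℚ) ^ 3 / dg χ := by
      refine Finset.sum_le_sum fun χ hχ => ?_
      have k1 : u χ ^ 2 ≤ 2 := h9 ▸ Finset.single_le_sum (f := fun χ => u χ ^ 2)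
        (fun _ _ => sq_nonneg _) hχ
      have k2 : (7 : ℚ) ≤ dg χ := by
        exact_mod_cast Nat.le_of_dvd (dg_pos χ) (Finset.mem_filter.1 hχ).2
      have k3 : -1 ≤ u χ := by nlinarith
      have k4 : u χ ≤ 1 := by nlinarith
      have k5 : (1 : ℚ) / dg χ ≤ 1 / 7 := one_div_le_one_div_of_le (by norm_num) k2
      have k6 : (0 : ℚ) ≤ 1 / dg χ := by positivity
      rw [div_eq_mul_one_div _ (dg χ : ℚ)]
      interval_cases u χ <;> push_cast <;> linarith
    rw [Finset.sum_neg_distrib, ← Finset.sum_div] at h10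
    have h11 : ∑ χ ∈ R, (u χ : ℚ) ^ 2 = 2 := by exact_mod_cast h9
    have h12 : (pairN t : ℚ) ≤ 8 := by exact_mod_cast h7 ▸ e9
    rw [h8] at e5
    rw [h11] at h10
    push_cast at e5
    linarith
  · rw [h2] at e2 e3 e5 e6
    obtain ⟨j, hj⟩ : 9 ∣ i := by omega
    have h3 : c * j = 168 := by rw [hj] at e8; linarith
    have h4 : c ∣ 24 := (Nat.Coprime.dvd_of_dvd_mul_left
      ((Nat.Prime.coprime_iff_not_dvd (by norm_num)).2 e7).symm (Dvd.intro _ h3 : c ∣ 7 * 24))
    have h5 := Nat.le_of_dvd (by norm_num) h4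
    have h6 : ∑ χ ∈ R, (7 * u χ + dg χ) ^ 2 =
        49 * ∑ χ ∈ R, u χ ^ 2 + 14 * ∑ χ ∈ R, u χ * dg χ + ∑ χ ∈ R, (dg χ : ℤ) ^ 2 := by
      rw [Finset.mul_sum, Finset.mul_sum, ← Finset.sum_add_distrib, ← Finset.sum_add_distrib]
      exact Finset.sum_congr rfl fun _ _ => by ring
    have h7 : 0 ≤ ∑ χ ∈ R, (7 * u χ + dg χ) ^ 2 := Finset.sum_nonneg fun _ _ => sq_nonneg _
    have h8 : ∑ χ ∈ R, (7 * u χ + dg χ) ^ 2 = 0 := by omega
    have h9 : c = 24 := by omega
    have h10 : i = 63 := by rw [h9] at e8; omega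
    have h11 : ∑ χ ∈ R, (u χ : ℚ) ^ 3 / dg χ = ∑ χ ∈ R, -((dg χ : ℚ) ^ 2 / 343) := by
      refine Finset.sum_congr rfl fun χ hχ => ?_
      have k1 := (Finset.sum_eq_zero_iff_of_nonneg fun _ _ => sq_nonneg _).1 h8 χ hχ
      have k2 : (u χ : ℚ) = -(dg χ / 7) := by
        have : (7 * u χ + dg χ : ℚ) = 0 := by exact_mod_cast pow_eq_zero_iff (two_ne_zero) |>.1 k1
        linarith
      have k3 : (dg χ : ℚ) ≠ 0 := by exact_mod_cast (dg_pos χ).ne'
      rw [k2]; field_simp; norm_num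
    have h12 : ∑ χ ∈ R, (dg χ : ℚ) ^ 2 = 490 := by exact_mod_cast e4'
    rw [h11, Finset.sum_neg_distrib, ← Finset.sum_div, h12, h10] at e5
    have : (0 : ℚ) ≤ pairN t := Nat.cast_nonneg _
    push_cast at e5
    linarith

end H8.Dg
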