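import Mathlib
import Cfsg.Agent.Base
import Cfsg.Agent.Lib.H4.Sieve2
import Cfsg.Agent.Lib.Transfer.Control

/-! No simple groups of order 1800, 2700, 3600. -/

set_option autoImplicit false
open Cfsg Subgroup H4 H4.Sv
open scoped commutatorElement

namespace H8.Dg

variable {G : Type*} [Group G] [Finite G]

instance fact5 : Fact (Nat.Prime 5) := ⟨by norm_num⟩

theorem not150 {P R : Sylow 5 G} (hP : Nat.card (P : Subgroup G) = 25) (h : R ≠ P) {N : Subgroup G}
    (hPN : (P : Subgroup G) ≤ N) (hRN : (R : Subgroup G) ≤ N) : Nat.card N ≠ 150 := by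
  intro hN
  obtain ⟨K, hK, hKi⟩ := exists_index_two (G := N) (m := 75) hN (by decide)
  have hle : ∀ Q : Sylow 5 G, (Q : Subgroup G) ≤ N → (Q : Subgroup G) ≤ K.map N.subtype :=
    fun Q hQ x hx => ⟨⟨x, hQ hx⟩, H35.IsPElt.mem_of_index (p := 5) (by rw [hKi]; norm_num)
      ((H35.isPElt_coe _).1 (H35.isPElt_of_mem Q.isPGroup' hx)), rfl⟩
  obtain ⟨z, hz1, hz2, hz3⟩ := exists_sylow_count h (hle P hPN) (hle R hRN)
  have hKc : Nat.card (K.map N.subtype) = 75 := by
    rw [card_map_of_injective N.subtype_injective]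
    have := K.card_mul_index
    rw [hKi, hN] at this
    omega
  obtain ⟨v, hv⟩ : 25 ∣ Nat.card ↥(normalizer ((P : Subgroup G) : Set G) ⊓ K.map N.subtype) :=
    hP ▸ card_dvd_of_le (le_inf le_normalizer (hle P hPN))
  rw [hv, hKc] at hz1
  have : z ∣ 3 := ⟨v, by linarith⟩
  have := Nat.le_of_dvd (by norm_num) this
  omega

theorem five_setup [IsSimpleGroup G] (hG : ¬ IsMulCommutative G) {P R : Sylow 5 G}
    (hP : Nat.card (P : Subgroup G) = 25) (hR5 : (R : Subgroup G).relIndex P = 5) :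
    R ≠ P ∧ (P : Subgroup G) ≤ normalizer ((P ⊓ R : Subgroup G) : Set G) ∧
      (R : Subgroup G) ≤ normalizer ((P ⊓ R : Subgroup G) : Set G) ∧
      10 ≤ (normalizer ((P ⊓ R : Subgroup G) : Set G)).index ∧
      Nat.card (P ⊓ R : Subgroup G) = 5 := by
  have hRP : R ≠ P := by rintro rfl; simp at hR5
  set D := (P : Subgroup G) ⊓ R with hD
  have hPN : (P : Subgroup G) ≤ normalizer (D : Set G) :=
    le_normalizer_of_relIndex_eq P.isPGroup' inf_le_left (by rw [hD, inf_relIndex_left, hR5])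
  have hRN : (R : Subgroup G) ≤ normalizer (D : Set G) :=
    le_normalizer_of_relIndex_eq R.isPGroup' inf_le_right
      (by rw [hD, inf_relIndex_right, ← relIndex_comm, hR5])
  have hD5 : Nat.card D = 5 := by
    have h2 : D.relIndex P = 5 := by rw [hD, inf_relIndex_left, hR5]
    have e4 := (D.subgroupOf P).card_mul_index
    rw [Nat.card_congr (subgroupOfEquivOfLe (inf_le_left : D ≤ P)).toEquiv, hP] at e4
    change _ * D.relIndex P = _ at e4
    rw [h2] at e4
    exact Nat.eq_of_mul_eq_mul_right (by norm_num : 0 < 5) e4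
  have hNt : normalizer (D : Set G) ≠ ⊤ := by
    intro e
    rcases IsSimpleGroup.eq_bot_or_eq_top_of_normal D (normalizer_eq_top_iff.1 e) with h2 | h2
    · rw [h2, card_bot] at hD5; omega
    · have := card_dvd_of_le (show (P : Subgroup G) ≤ D from h2 ▸ le_top)
      rw [hP, hD5] at this
      omega
  refine ⟨hRP, hPN, hRN, ?_, hD5⟩
  have h7 := H36.two_mul_card_dvd_factorial hG hNt
  by_contra h
  have h1 := h7.trans (Nat.factorial_dvd_factorial (by omega : _ ≤ 9))
  have h2 : 25 ∣ 2 * Nat.card G := (hP ▸ card_subgroup_dvd_card (P : Subgroup G)).mul_left _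
  have := h2.trans h1
  revert this; decide

theorem card_ne_36 [IsSimpleGroup G] (hG : ¬ IsMulCommutative G) {c : ℕ} (hc : c = 2 ∨ c = 3)
    (hn : Nat.card G = 900 * c) (hnp : Nat.card (Sylow 5 G) = 36) : False := by
  obtain ⟨P⟩ : Nonempty (Sylow 5 G) := inferInstance
  have hP : Nat.card (P : Subgroup G) = 25 :=
    H36.card_sylow_eq_pow P (k := 2) (by rw [hn]; omega) (by rw [hn]; omega)
  obtain ⟨R, -, hR⟩ := exists_sylow_relIndex_eq P (by rw [hnp]; decide)
  obtain ⟨h1, h2, h3, h4, -⟩ := five_setup hG hP hR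
  obtain ⟨y, hy1, hy2, hy3⟩ := exists_sylow_count h1 h2 h3
  have h5 := not150 hP h1 h2 h3
  set N := normalizer ((P ⊓ R : Subgroup G) : Set G)
  have h6 := N.card_mul_index
  obtain ⟨w, hw⟩ : 25 ∣ Nat.card ↥(normalizer ((P : Subgroup G) : Set G) ⊓ N) :=
    hP ▸ card_dvd_of_le (le_inf le_normalizer h2)
  have hN := H36.card_eq_sylow_mul P
  have h7 := card_dvd_of_le (inf_le_left : normalizer ((P : Subgroup G) : Set G) ⊓ N ≤ _)
  rw [hn, hnp] at hN
  rw [hw, show Nat.card (normalizer ((P : Subgroup G) : Set G)) = 25 * c by omega] at h7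
  have h8 : w ∣ c := Nat.dvd_of_mul_dvd_mul_left (by norm_num) h7
  rw [← hy1, hw, hn] at h6
  rw [← hy1, hw] at h5
  have h9 : y * w * N.index = 36 * c := by linarith
  have hy6 : 6 ≤ y := by omega
  have hw1 : 1 ≤ w := Nat.pos_of_dvd_of_pos h8 (by omega)
  have := Nat.mul_le_mul (Nat.mul_le_mul_left y hw1) h4
  obtain rfl : y = 6 := by omega
  have hw2 : w ≠ 1 := by rintro rfl; omega
  have : w * N.index = 6 * c := by linarith
  have : 2 * N.index ≤ w * N.index := Nat.mul_le_mul_right _ (by omega)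
  omega

theorem card_ne_1800 [IsSimpleGroup G] (hG : ¬ IsMulCommutative G) : Nat.card G ≠ 1800 := fun hn =>
  card_ne_36 hG (c := 2) (by omega) hn (by
    simpa using chkPow_sound hG (p := 5) (k := 2) (by norm_num) (by rw [hn]; norm_num)
      (by rw [hn]; norm_num) (C := fun x => x == 36) (by rw [hn]; decide +kernel))

theorem card_ne_2700 [IsSimpleGroup G] (hG : ¬ IsMulCommutative G) : Nat.card G ≠ 2700 := fun hn =>
  card_ne_36 hG (c := 3) (by omega) hn (by
    simpa using chkPow_sound hG (p := 5) (k := 2) (by norm_num) (by rw [hn]; norm_num)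
      (by rw [hn]; norm_num) (C := fun x => x == 36) (by rw [hn]; decide +kernel))

theorem card_ne_3600_16 [IsSimpleGroup G] (hG : ¬ IsMulCommutative G) (hn : Nat.card G = 3600)
    (hnp : Nat.card (Sylow 5 G) = 16) : False := by
  obtain ⟨P⟩ : Nonempty (Sylow 5 G) := inferInstance
  have hP : Nat.card (P : Subgroup G) = 25 :=
    H36.card_sylow_eq_pow P (k := 2) (by rw [hn]; omega) (by rw [hn]; omega)
  obtain ⟨R, -, hR⟩ := exists_sylow_relIndex_eq P (by rw [hnp]; decide)
  obtain ⟨h1, h2, h3, h4, -⟩ := five_setup hG hP hR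
  obtain ⟨y, hy1, hy2, hy3⟩ := exists_sylow_count h1 h2 h3
  have hN := H36.card_eq_sylow_mul P
  rw [hn, hnp] at hN
  set M := normalizer ((P : Subgroup G) : Set G) with hM
  have hM' : Nat.card M = 225 := by omega
  have h5 : 3 ∣ Nat.card ↥(M ⊓ normalizer ((R : Subgroup G) : Set G)) := by
    have e1 : (MulAction.orbit M R).ncard < 16 := by
      rw [← hnp, ← Set.ncard_univ]
      refine Set.ncard_lt_ncard ⟨Set.subset_univ _, fun h => ?_⟩
      obtain ⟨m, hm⟩ := h (Set.mem_univ P)
      have : (m : G) • P = P := Sylow.smul_eq_iff_mem_normalizer.2 m.2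
      exact h1 (smul_left_cancel (m : G) (hm.trans this.symm))
    rw [← MulAction.index_stabilizer] at e1
    have e2 : MulAction.stabilizer M R = (M ⊓ normalizer ((R : Subgroup G) : Set G)).subgroupOf M := by
      ext m
      rw [MulAction.mem_stabilizer_iff, mem_subgroupOf, mem_inf]
      exact ⟨fun h => ⟨m.2, Sylow.smul_eq_iff_mem_normalizer.1 h⟩,
        fun h => Sylow.smul_eq_iff_mem_normalizer.2 h.2⟩
    have e3 := (MulAction.stabilizer M R).card_mul_index
    have e4 : ¬ 25 ∣ Nat.card (MulAction.stabilizer M R) := by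
      intro h
      rw [e2, Nat.card_congr (subgroupOfEquivOfLe inf_le_left).toEquiv] at h
      obtain ⟨Q, hQ⟩ := Sylow.exists_subgroup_card_pow_prime (n := 2) 5 h
      have q1 : IsPGroup 5 (Q.map (M ⊓ normalizer ((R : Subgroup G) : Set G)).subtype) :=
        (IsPGroup.of_card hQ).map _
      have q2 : Nat.card (Q.map (M ⊓ normalizer ((R : Subgroup G) : Set G)).subtype) = 25 := by
        rw [card_map_of_injective (subtype_injective _), hQ]; rfl
      have q3 : ∀ S : Sylow 5 G, M ⊓ normalizer ((R : Subgroup G) : Set G) ≤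
          normalizer ((S : Subgroup G) : Set G) →
          Q.map (M ⊓ normalizer ((R : Subgroup G) : Set G)).subtype = S := fun S hS => by
        refine eq_of_le_of_card_ge ?_ (by
          rw [q2, ← hP]; exact (Nat.card_congr (S.equiv P).toEquiv).le)
        have := q1.inf_normalizer_sylow S
        exact ((inf_eq_left.2 ((map_subtype_le _).trans hS)).symm.trans this).le.trans
          inf_le_right
      exact h1 (Sylow.ext ((q3 R inf_le_right).symm.trans (q3 P inf_le_left)))
    rw [e2, Nat.card_congr (subgroupOfEquivOfLe inf_le_left).toEquiv] at e3 e4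
    rw [e2] at e1
    rw [hM'] at e3
    generalize ((M ⊓ normalizer ((R : Subgroup G) : Set G)).subgroupOf M).index = i at *
    interval_cases i <;> omega
  set N := normalizer ((P ⊓ R : Subgroup G) : Set G)
  have h6 : 3 ∣ Nat.card ↥(M ⊓ N) :=
    h5.trans (card_dvd_of_le (le_inf inf_le_left inf_normalizer_le_normalizer_inf))
  have h7 : 25 ∣ Nat.card ↥(M ⊓ N) := hP ▸ card_dvd_of_le (le_inf le_normalizer h2)
  have h8 := N.card_mul_index
  have h9 : 75 ≤ Nat.card ↥(M ⊓ N) := Nat.le_of_dvd Nat.card_pos (by omega)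
  rw [← hy1, hn] at h8
  nlinarith [Nat.mul_le_mul (Nat.mul_le_mul (show 6 ≤ y by omega) h9) h4]

theorem card_ne_3600_36 [IsSimpleGroup G] (hG : ¬ IsMulCommutative G) (hn : Nat.card G = 3600)
    (hnp : Nat.card (Sylow 5 G) = 36) : False := by
  obtain ⟨P⟩ : Nonempty (Sylow 5 G) := inferInstance
  have hS : ∀ P : Sylow 5 G, Nat.card (P : Subgroup G) = 25 := fun P =>
    H36.card_sylow_eq_pow P (k := 2) (by rw [hn]; omega) (by rw [hn]; omega)
  have hP := hS P
  have hcomm : ∀ P : Sylow 5 G, IsMulCommutative (P : Subgroup G) := fun P =>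
    ⟨⟨(IsPGroup.commGroupOfCardEqPrimeSq (p := 5) (hS P)).mul_comm⟩⟩
  have hc : ∀ (P : Sylow 5 G) (a b : G), a ∈ (P : Subgroup G) → b ∈ (P : Subgroup G) →
      a * b = b * a := fun P a b ha hb =>
    congrArg Subtype.val ((hcomm P).is_comm.comm ⟨a, ha⟩ ⟨b, hb⟩)
  obtain ⟨R, -, hR⟩ := exists_sylow_relIndex_eq P (by rw [hnp]; decide)
  obtain ⟨h1, h2, h3, h4, hD5⟩ := five_setup hG hP hR
  have hN := H36.card_eq_sylow_mul P
  rw [hn, hnp] at hN
  set M := normalizer ((P : Subgroup G) : Set G) with hM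
  have hM' : Nat.card M = 100 := by omega
  set D := (P : Subgroup G) ⊓ R with hD
  set N := normalizer (D : Set G)
  have h8 := N.card_mul_index
  rw [hn] at h8
  have key : ∀ K : Subgroup G, (P : Subgroup G) ≤ K → (R : Subgroup G) ≤ K → K ≤ N →
      Nat.card K = 300 ∧ Nat.card ↥(M ⊓ K) = 50 := fun K k1 k2 k3 => by
    obtain ⟨y, hy1, hy2, hy3⟩ := exists_sylow_count h1 k1 k2
    have h5 := not150 hP h1 k1 k2
    have h6 := Nat.le_of_dvd Nat.card_pos (card_dvd_of_le k3)
    have h6' := card_subgroup_dvd_card K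
    obtain ⟨w, hw⟩ : 25 ∣ Nat.card ↥(M ⊓ K) := hP ▸ card_dvd_of_le (le_inf le_normalizer k1)
    have h7 := card_dvd_of_le (inf_le_left : M ⊓ K ≤ _)
    rw [hw, hM'] at h7
    have h9 : w ∣ 4 := Nat.dvd_of_mul_dvd_mul_left (by norm_num : 0 < 25) h7
    have h10 := Nat.le_of_dvd (by norm_num) h9
    have h11 : Nat.card N ≤ 360 := by nlinarith
    rw [← hM, hw] at hy1
    rw [hn, ← hy1] at h6'
    have hw1 : 1 ≤ w := Nat.pos_of_dvd_of_pos h9 (by omega)
    have : y ≤ 14 := by nlinarith
    interval_cases w <;> interval_cases y <;> omega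
  have hCN : centralizer (D : Set G) = N := by
    refine eq_of_le_of_card_ge (centralizer_le_normalizer _) ?_
    rw [(key N h2 h3 le_rfl).1, (key (centralizer (D : Set G)) (fun a ha b hb => hc P b a hb.1 ha)
      (fun a ha b hb => hc R b a hb.2 ha) (centralizer_le_normalizer _)).1]
  have hW := (key N h2 h3 le_rfl).2
  have hi : ((M ⊓ N).subgroupOf M).index = 2 := by
    have e3 := ((M ⊓ N).subgroupOf M).card_mul_index
    rw [Nat.card_congr (subgroupOfEquivOfLe inf_le_left).toEquiv, hW, hM'] at e3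
    omega
  obtain ⟨n, hn1⟩ := index_eq_two_iff.1 hi
  have hnN : (n : G) ∉ N := fun h => by
    have := hn1 1
    simp [mem_subgroupOf, h] at this
  have hcos : ∀ m : M, (m : G) ∈ N ∨ (m : G) * n ∈ N := fun m => by
    rcases hn1 m with h | h
    · exact Or.inr (mem_subgroupOf.1 h.1).2
    · exact Or.inl (mem_subgroupOf.1 h.1).2
  have hnn : (n : G) * n ∈ N := (hcos n).resolve_left hnN
  -- `M ⊓ N` centralises `P`
  have hWC : ∀ m : M, (m : G) ∈ N → ∀ x ∈ (P : Subgroup G), (m : G) * x = x * m := by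
    intro m hm
    obtain ⟨d, hd, hd'⟩ : ∃ d ∈ D, (n : G) * d * (n : G)⁻¹ ∉ D := by
      by_contra h
      push Not at h
      exact hnN (mem_normalizer_fintype h)
    have e1 : (n⁻¹ * m * n : M).1 ∈ N := by
      have := (normal_of_index_eq_two hi).conj_mem' m (mem_subgroupOf.2 ⟨m.2, hm⟩) n
      exact (mem_subgroupOf.1 this).2
    have e2 : (n : G) * d * (n : G)⁻¹ ∈ centralizer ({(m : G)} : Set G) := by
      rw [← hCN] at e1
      have := e1 d hd
      rw [mem_centralizer_singleton_iff]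
      push_cast at this
      calc _ = (n : G) * (d * ((n : G)⁻¹ * m * n)) * (n : G)⁻¹ := by group
        _ = _ := by rw [this]; group
    have e3 : D < (P : Subgroup G) ⊓ centralizer ({(m : G)} : Set G) := by
      refine lt_of_le_of_ne (le_inf inf_le_left fun x hx => ?_) fun e => hd' ?_
      · rw [← hCN] at hm
        exact mem_centralizer_singleton_iff.2 (hm x hx)
      · exact e ▸ ⟨(mem_normalizer_iff.1 n.2 d).1 hd.1, e2⟩
    have e4 := card_dvd_of_le (inf_le_left : (P : Subgroup G) ⊓ centralizer ({(m : G)} : Set G) ≤ _)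
    have e5 : Nat.card D < Nat.card ↥((P : Subgroup G) ⊓ centralizer ({(m : G)} : Set G)) :=
      lt_of_le_of_ne (card_le_of_le e3.le) fun e => e3.ne (eq_of_le_of_card_ge e3.le e.ge)
    have e6 : (P : Subgroup G) ⊓ centralizer ({(m : G)} : Set G) = P := by
      refine eq_of_le_of_card_ge inf_le_left ?_
      rw [hP] at e4 ⊢
      rw [hD5] at e5
      have := Nat.le_of_dvd (by norm_num) e4
      generalize Nat.card ↥((P : Subgroup G) ⊓ centralizer ({(m : G)} : Set G)) = k at *
      interval_cases k <;> omega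
    intro x hx
    exact (mem_centralizer_singleton_iff.1 (e6.ge hx).2).symm
  let K : Subgroup G :=
    { carrier := {y | y ∈ (P : Subgroup G) ∧ (n : G) * y * (n : G)⁻¹ = y⁻¹}
      one_mem' := ⟨one_mem _, by simp⟩
      mul_mem' := fun {a b} ha hb => ⟨mul_mem ha.1 hb.1, by
        rw [← conj_mul, ha.2, hb.2, ← mul_inv_rev, hc P _ _ ha.1 hb.1]⟩
      inv_mem' := fun {a} ha => ⟨inv_mem ha.1, by rw [← conj_inv, ha.2]⟩ }
  haveI := hcomm P
  have hK := commutator_inf_sylow_le_of_fusion P (K := K) fun x hx u hu => by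
    obtain ⟨m, hm, e⟩ := normalizer_controls_fusion_of_isMulCommutative P x hx u hu
    rw [commutatorElement_def, ← e]
    refine ⟨mul_mem (e ▸ hu) (inv_mem hx), ?_⟩
    rcases hcos ⟨m, hm⟩ with h | h
    · have := hWC ⟨m, hm⟩ h x hx
      simp only at this
      rw [this]; simp
    · have a1 := hWC (⟨m, hm⟩ * n) h _ ((mem_normalizer_iff.1 (inv_mem n.2) x).1 hx)
      have a2 := hWC (n * n) hnn
      push_cast at a1 a2
      have a3 : m * x * m⁻¹ = (n : G)⁻¹ * x * n := by
        calc m * x * m⁻¹ = (m * n * ((n : G)⁻¹ * x * (n : G)⁻¹⁻¹)) * (m * n)⁻¹ := by group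
          _ = _ := by rw [a1]; group
      have a4 : (n : G) * x⁻¹ * (n : G)⁻¹ = (n : G)⁻¹ * x⁻¹ * n := by
        calc (n : G) * x⁻¹ * (n : G)⁻¹ = (n : G)⁻¹ * (n * n * x⁻¹) * (n : G)⁻¹ := by group
          _ = _ := by rw [a2 _ (inv_mem hx)]; group
      rw [a3]
      calc _ = x * ((n : G) * x⁻¹ * (n : G)⁻¹) := by group
        _ = _ := by rw [a4]; group
  rw [H36.commutator_eq_top_of_simple hG, top_inf_eq] at hK
  exact hnN (mem_normalizer_fintype fun d hd => by rw [(hK hd.1).2]; exact inv_mem hd)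

theorem card_ne_3600 [IsSimpleGroup G] (hG : ¬ IsMulCommutative G) : Nat.card G ≠ 3600 := fun hn => by
  have := chkPow_sound hG (p := 5) (k := 2) (by norm_num) (by rw [hn]; norm_num)
      (by rw [hn]; norm_num) (C := fun x => x == 36 || x == 16) (by rw [hn]; decide +kernel)
  simp only [Bool.or_eq_true, beq_iff_eq] at this
  exact this.elim (card_ne_3600_36 hG hn) (card_ne_3600_16 hG hn)

theorem card_ne_3360 [IsSimpleGroup G] (hG : ¬ IsMulCommutative G) : Nat.card G ≠ 3360 :=
  card_ne_of_cross hG 7 5 16 (by norm_num) (by norm_num) (by norm_num) (by norm_num) (by norm_num)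
    (by norm_num) (by norm_num) (by norm_num) (by norm_num) (by norm_num) (by decide +kernel)
    (by decide +kernel)

end H8.Dg
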