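import Mathlib
import Cfsg.Agent.Base
import Cfsg.Agent.Lib.Dg8.Five
import Cfsg.Agent.Lib.Dg8.Blk
import Cfsg.Agent.S0496
import Cfsg.Agent.S0983

/-! Orders of the simple groups below 6000 and checks on their character degrees. -/

set_option autoImplicit false
set_option linter.unusedSectionVars false

open Cfsg Subgroup H17.Ord H4.Sv

namespace H8.Dg

variable {G : Type*} [Group G] [Finite G] [IsSimpleGroup G]

def SO : List ℕ := [60, 168, 360, 504, 660, 1092, 2448, 2520, 3420, 4080, 5616]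

theorem r1 : killRange [1404, 1512] 700 1093 = true := by decide +kernel
theorem r2 : killRange [1800, 2448] 700 1793 = true := by decide +kernel
theorem r3 : killRange [2520, 2700] 600 2493 = true := by decide +kernel
theorem r4 : killRange [3360, 3420, 3600] 548 3093 = true := by decide +kernel

theorem card_mem_SO (hG : ¬ IsMulCommutative G) (h : Nat.card G < 6000) : Nat.card G ∈ SO := by
  have a := card_ne_1404 hG
  have b := card_ne_1512 hG
  have c := card_ne_1800 hG
  have d := card_ne_2700 hG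
  have e := card_ne_3360 hG
  have f := card_ne_3600 hG
  simp only [SO, List.mem_cons, List.not_mem_nil, or_false]
  by_cases e0 : Nat.card G ≤ 1092
  · have := Cfsg.Agent.S0496.result hG e0
    omega
  by_cases e1 : Nat.card G < 1793
  · have := card_mem hG r1 (by omega) (by omega)
    simp only [List.mem_cons, List.not_mem_nil, or_false] at this
    omega
  by_cases e2 : Nat.card G < 2493
  · have := card_mem hG r2 (by omega) (by omega)
    simp only [List.mem_cons, List.not_mem_nil, or_false] at this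
    omega
  by_cases e3 : Nat.card G < 3093
  · have := card_mem hG r3 (by omega) (by omega)
    simp only [List.mem_cons, List.not_mem_nil, or_false] at this
    omega
  by_cases e4 : Nat.card G < 3641
  · have := card_mem hG r4 (by omega) (by omega)
    simp only [List.mem_cons, List.not_mem_nil, or_false] at this
    omega
  · have := Cfsg.Agent.S0983.result hG (by omega) (by omega)
    omega

def vchk (n p : ℕ) : Bool := chkOne n p fun _ e c l => c == 1 &&
  ((List.range 78).map fun d =>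
    (if d = 1 then 1 else if p ∣ d then 0 else cntDeg p e l d) * d ^ 2).sum != n

def dchk (n p r : ℕ) : Bool := chkOne n p fun _ e _ l =>
  (List.range 78).any fun d => decide (r ∣ d) && decide (1 ≤ cntDeg p e l d)

def nchk (n p r : ℕ) : Bool := chkOne n p fun _ e c l => c == 1 &&
  (List.range 78).all fun d => !decide (r ∣ d) || d == 0 ||
    (if p ∣ d then decide (n < d ^ 2) else d != 1 && cntDeg p e l d == 0)

omit [IsSimpleGroup G] in
theorem dg_mem_range (h : Nat.card G < 6000) (χ : IrrCharacter G) : dg χ ∈ List.range 78 := by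
  have := H87.deg_sq_le_card χ.2
  rw [List.mem_range]
  change dg χ ^ 2 ≤ _ at this
  nlinarith

theorem vertex (hG : ¬ IsMulCommutative G) {n : ℕ} (hn : Nat.card G = n) (p : ℕ) (hp : p.Prime)
    (h : n < 6000 ∧ p ≠ 2 ∧ p ∣ n ∧ ¬ p ^ 2 ∣ n ∧ vchk n p = true) : p ∈ degreePrimes G := by
  subst hn
  haveI := Fact.mk hp
  obtain ⟨P⟩ : Nonempty (Sylow p G) := inferInstance
  obtain ⟨e, c, l, a1, -, -, -, a2⟩ := exists_data hG p h.2.1 P
    (by simpa using H36.card_sylow_eq_pow P (k := 1) (by simpa using h.2.2.1) h.2.2.2.1) h.2.2.2.2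
  simp only [Bool.and_eq_true, beq_iff_eq, bne_iff_ne] at a1
  by_contra hc
  refine a1.2 ?_
  rw [← sum_dg_sq, sum_eq_cnt _ _ List.nodup_range (fun χ _ => dg_mem_range h.1 χ) (· ^ 2)]
  congr 1
  refine List.map_congr_left fun d _ => ?_
  rw [smul_eq_mul]
  congr 1
  split_ifs with h1 h2
  · rw [h1, cnt_one (hna_of hG) (Finset.mem_univ _)]
  · exact (cnt_eq_zero.2 fun χ _ e => hc ⟨hp, d, ⟨χ, e⟩, h2⟩).symm
  · rw [← a2 a1.1 d h2 h1, natCard_deg]

theorem exists_deg (hG : ¬ IsMulCommutative G) {n : ℕ} (hn : Nat.card G = n) (p r : ℕ)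
    (hp : p.Prime) (h : p ≠ 2 ∧ p ∣ n ∧ ¬ p ^ 2 ∣ n ∧ dchk n p r = true) :
    ∃ d ∈ charDegrees G, r ∣ d := by
  subst hn
  haveI := Fact.mk hp
  obtain ⟨P⟩ : Nonempty (Sylow p G) := inferInstance
  obtain ⟨e, c, l, a1, -, -, a2, -⟩ := exists_data hG p h.1 P
    (by simpa using H36.card_sylow_eq_pow P (k := 1) (by simpa using h.2.1) h.2.2.1) h.2.2.2
  simp only [List.any_eq_true, Bool.and_eq_true, decide_eq_true_eq] at a1
  obtain ⟨d, -, h1, h2⟩ := a1
  have := h2.trans (a2 d)
  rw [natCard_deg] at this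
  obtain ⟨χ, -, e⟩ := cnt_pos.1 this
  exact ⟨d, ⟨χ, e⟩, h1⟩

theorem not_exists_deg (hG : ¬ IsMulCommutative G) {n : ℕ} (hn : Nat.card G = n) (p r : ℕ)
    (hp : p.Prime) (h : n < 6000 ∧ p ≠ 2 ∧ p ∣ n ∧ ¬ p ^ 2 ∣ n ∧ nchk n p r = true) :
    ¬ ∃ d ∈ charDegrees G, r ∣ d := by
  subst hn
  haveI := Fact.mk hp
  obtain ⟨P⟩ : Nonempty (Sylow p G) := inferInstance
  obtain ⟨e, c, l, a1, -, -, -, a2⟩ := exists_data hG p h.2.1 P
    (by simpa using H36.card_sylow_eq_pow P (k := 1) (by simpa using h.2.2.1) h.2.2.2.1) h.2.2.2.2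
  simp only [Bool.and_eq_true, beq_iff_eq, List.all_eq_true] at a1
  rintro ⟨_, ⟨χ, rfl⟩, h1⟩
  have h2 := a1.2 _ (dg_mem_range h.1 χ)
  have h3 := dg_pos χ
  have h4 := H87.deg_sq_le_card χ.2
  change r ∣ dg χ at h1
  change dg χ ^ 2 ≤ _ at h4
  split_ifs at h2 with h5
  · simp [h1, h3.ne'] at h2; omega
  · simp only [h1, decide_true, Bool.not_true, Bool.false_or, Bool.or_eq_true, beq_iff_eq, h3.ne',
      false_or, Bool.and_eq_true, bne_iff_ne] at h2
    have := cnt_pos.2 ⟨χ, Finset.mem_univ _, rfl⟩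
    rw [← natCard_deg, a2 a1.1 _ h5 h2.1] at this
    omega

end H8.Dg
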