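import Mathlib
import Cfsg.Agent.Base
import Cfsg.Agent.Lib.Dg8.Blk
import Cfsg.Agent.Lib.ABG.H52_L33
import Cfsg.Agent.Lib.Core.CoprimeAbelian

/-! A simple group of order 5616 is `PSL₃(3)`. -/

set_option autoImplicit false
set_option linter.unusedSectionVars false
set_option linter.style.haveILetI false

open Cfsg Subgroup H17.Ord
open scoped ComplexConjugate

namespace H8.Dg

variable {G : Type*} [Group G] [Finite G]

theorem exists_V4 {t u : G} (ht : t * t = 1) (hu : u * u = 1) (h : u * t = t * u) (t1 : t ≠ 1)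
    (u1 : u ≠ 1) (ut : u ≠ t) : ∃ V : Subgroup G, Nat.card V = 4 ∧
      ∀ v, v ∈ V ↔ v = 1 ∨ v = t ∨ v = u ∨ v = t * u := by
  have a1 : t * (t * u) = u := by rw [← mul_assoc, ht, one_mul]
  have a2 : u * (t * u) = t := by rw [← mul_assoc, h, mul_assoc, hu, mul_one]
  have a3 : t * u * t = u := by rw [mul_assoc, h, a1]
  have a4 : t * u * u = t := by rw [mul_assoc, hu, mul_one]
  have a5 : t * u * (t * u) = 1 := by rw [mul_assoc, a2, ht]
  refine ⟨{ carrier := {1, t, u, t * u}, mul_mem' := ?_, one_mem' := by simp, inv_mem' := ?_ }, ?_,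
    fun v => Iff.rfl⟩
  · rintro a b (rfl | rfl | rfl | rfl) (rfl | rfl | rfl | rfl) <;> simp [*]
  · rintro a (rfl | rfl | rfl | rfl)
    · simp
    · simp [inv_eq_of_mul_eq_one_right ht]
    · simp [inv_eq_of_mul_eq_one_right hu]
    · rw [inv_eq_of_mul_eq_one_right a5]; simp
  · change Set.ncard ({1, t, u, t * u} : Set G) = 4
    have b1 : 1 ≠ t * u := fun e => ut (by rw [← a1, ← e, mul_one])
    rw [Set.ncard_insert_of_notMem (by simp [t1.symm, u1.symm, b1]),
      Set.ncard_insert_of_notMem (by simp [ut.symm, u1]),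
      Set.ncard_insert_of_notMem (by simp [t1]), Set.ncard_singleton]

theorem sum_types {ι β A : Type*} [DecidableEq β] [AddCommMonoid A] (R : Finset ι) (τ : ι → β)
    (T : List β) (hn : T.Nodup) (h : ∀ i ∈ R, τ i ∈ T) (f : β → A) :
    ∑ i ∈ R, f (τ i) = (T.map fun x => (R.filter (τ · = x)).card • f x).sum := by
  rw [← List.sum_toFinset _ hn,
    ← Finset.sum_fiberwise_of_maps_to (g := τ) (t := T.toFinset) (fun i hi => by simpa using h i hi)]
  refine Finset.sum_congr rfl fun d _ => ?_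
  rw [Finset.sum_congr rfl (g := fun _ => f d), Finset.sum_const]
  intro i hi; rw [(Finset.mem_filter.mp hi).2]

namespace L33

open Classical in
structure Tab (G : Type*) [Group G] [Finite G] where
  a : IrrCharacter G
  b : IrrCharacter G
  x : G
  da : dg a = 12
  db : dg b = 27
  split : ∀ {A : Type} [AddCommMonoid A] (f : IrrCharacter G → A), ∑ χ, f χ =
    f (triv G) + f a + f b + ∑ χ ∈ Finset.univ.filter (dg · = 16), f χ +
      ∑ χ ∈ Finset.univ.filter (13 ∣ dg ·), f χ
  c16 : (Finset.univ.filter (dg (G := G) · = 16)).card = 4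
  rel : ∀ θ : IrrCharacter G, dg θ = 16 → ∀ g, ¬ 13 ∣ orderOf g →
    (θ : G → ℂ) g = 1 - (a : G → ℂ) g + (b : G → ℂ) g
  inta : ∀ g, ∃ z : ℤ, (a : G → ℂ) g = z
  hx : orderOf x = 13
  nr : ¬ IsConj x x⁻¹
  ax : (a : G → ℂ) x = -1
  bx : (b : G → ℂ) x = 1
  cen : ∀ g : G, g ≠ 1 → ¬ 13 ∣ orderOf g → ¬ 13 ∣ Nat.card (centralizer ({g} : Set G))

variable [IsSimpleGroup G] (hn : Nat.card G = 5616)
include hn

theorem nc : ¬ IsMulCommutative G := H36.not_comm_of_not_prime (by rw [hn]; norm_num)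

theorem nonempty_tab : Nonempty (Tab G) := by
  classical
  have hG := nc hn
  obtain ⟨P, hP, hC, hN, ⟨B⟩, l, hl, h⟩ := blk hG 13 (by norm_num) (m := 432) hn (by norm_num) 3
    [[27, -12]] (by rw [hn]; decide +kernel)
  obtain rfl := List.mem_singleton.1 hl
  have h' : ∀ d, d ≠ 1 → ¬ 13 ∣ d → cnt (G := G) Finset.univ d =
      if d = 12 then 1 else if d = 27 then 1 else if d = 16 then 4 else 0 := fun d h1 h2 => by
    rw [h d h1 h2]
    simp [H4.Sv.cntDeg, List.count_cons]; split_ifs <;> omega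
  obtain ⟨a, -, da, ha⟩ := cnt_eq_one (h' 12 (by norm_num) (by norm_num))
  obtain ⟨b, -, db, hb⟩ := cnt_eq_one (h' 27 (by norm_num) (by norm_num))
  have hX : ∀ χ : IrrCharacter G, dg χ % 13 = 1 ∨ dg χ % 13 = 12 → χ ∈ B.X := fun χ e =>
    (B.mem_of_not_dvd hC (by omega)).resolve_right fun h => by have := B.modY h; omega
  have h1 := hX (triv G) (by rw [dg_triv]; omega)
  have h2 := hX a (by omega)
  have h3 := hX b (by omega)
  have n1 : triv G ≠ a := fun e => by rw [← e, dg_triv] at da; omega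
  have n2 : triv G ≠ b := fun e => by rw [← e, dg_triv] at db; omega
  have n3 : a ≠ b := fun e => by rw [e] at da; omega
  have hXe : B.X = {triv G, a, b} := by
    symm
    refine Finset.eq_of_subset_of_card_le (fun χ hχ => ?_) (by
      rw [B.cardX, Finset.card_eq_three.2 ⟨_, _, _, n1, n2, n3, rfl⟩])
    simp only [Finset.mem_insert, Finset.mem_singleton] at hχ
    rcases hχ with rfl | rfl | rfl <;> assumption
  have ea : B.ε a = -1 := by rw [B.ε_eq (by norm_num) h2, da]; rfl
  have eb : B.ε b = 1 := by rw [B.ε_eq (by norm_num) h3, db]; rfl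
  obtain ⟨x, hxP, hx⟩ := B.exists_sing
  have hzp : zpowers x = P := eq_of_le_of_card_ge (zpowers_le.2 hxP) (by
    rw [hP, Nat.card_zpowers, hx])
  refine ⟨⟨a, b, x, da, db, fun f => split hG (fun ψ e => ha ψ (by simp) (e.trans da))
      (fun ψ e => hb ψ (by simp) (e.trans db)) (fun χ hχ => ?_) (by rw [da, db]; decide)
      (by rw [da, db]; decide) f, h' 16 (by norm_num) (by norm_num), fun θ hθ g hg => ?_,
      int_of_unique fun ψ e => ha ψ (by simp) (e.trans da), hx, not_real (fun e => ?_) ?_, ?_, ?_,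
      fun g h1 h2 => not_dvd_cent hP B.ind hC h1 h2⟩⟩
  · by_contra hc
    have := cnt_pos.2 ⟨χ, Finset.mem_univ _, rfl⟩
    rw [da, db] at hc
    push Not at hc
    rw [h' _ hc.1 hχ] at this
    simp [hc] at this
  · have hY := (B.mem_of_not_dvd hC (χ := θ) (by omega)).resolve_left fun h => by
      have := B.modX h; omega
    have := B.rel θ hY g hg
    rw [hXe, Finset.sum_insert (by simp [n1, n2]), Finset.sum_pair n3, ea, eb, B.ε_triv h1,
      ((B.modY hY).resolve_right fun h => by omega).1, triv_apply] at this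
    push_cast at this
    linear_combination this
  · have := orderOf_dvd_of_pow_eq_one (show x ^ 2 = 1 by rw [sq, e])
    rw [hx] at this; omega
  · rw [hzp, hN]; decide
  · rw [B.valX a h2 x (by rw [hx]), ea]; simp
  · rw [B.valX b h3 x (by rw [hx]), eb]; simp

open Classical in
theorem sum_dg (T : Tab G) :
    ∑ χ ∈ Finset.univ.filter (13 ∣ dg (G := G) ·), (dg χ : ℤ) ^ 2 = 3718 := by
  have e4 := sum_dg_sq (G := G)
  rw [T.split, Finset.sum_congr rfl fun χ hχ => by rw [(Finset.mem_filter.1 hχ).2], Finset.sum_const,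
    T.c16, T.da, T.db, dg_triv, hn] at e4
  have : ∑ χ ∈ Finset.univ.filter (13 ∣ dg (G := G) ·), dg χ ^ 2 = 3718 := by simp at e4; omega
  exact_mod_cast this

open Classical in
theorem inv_col (T : Tab G) {t : G} (ht : orderOf t = 2) : ∃ u : IrrCharacter G → ℤ,
    (∀ χ : IrrCharacter G, (χ : G → ℂ) t = u χ) ∧ u (triv G) = 1 ∧ u T.a = 4 ∧ u T.b = 3 ∧
    (∀ χ ∈ Finset.univ.filter (dg (G := G) · = 16), u χ = 0) ∧
    Nat.card (centralizer ({t} : Set G)) = 48 ∧
    ∑ χ ∈ Finset.univ.filter (13 ∣ dg (G := G) ·), u χ ^ 2 = 22 ∧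
    ∑ χ ∈ Finset.univ.filter (13 ∣ dg (G := G) ·), u χ * dg χ = -130 := by
  have ht2 : t * t = 1 := by rw [← sq, ← ht, pow_orderOf_eq_one]
  have ht1 : t ≠ 1 := fun e => by simp [e] at ht
  choose u hu using fun χ : IrrCharacter G => (int_of_invol χ ht2).imp fun _ h => h.1
  have u1 : u (triv G) = 1 := by have := hu (triv G); rw [triv_apply] at this; exact_mod_cast this.symm
  have u8 : ∀ χ ∈ Finset.univ.filter (dg (G := G) · = 16), u χ = 0 := fun χ hχ => by
    have := van_of_pow_dvd (χ := χ) (p := 2) (k := 4) (by norm_num) (by rw [hn]; norm_num)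
      (by rw [(Finset.mem_filter.1 hχ).2]; norm_num) (x := t) (by rw [ht])
    rw [hu] at this; exact_mod_cast this
  obtain ⟨θ, hθ⟩ := Finset.card_pos.1 (T.c16 ▸ by norm_num :
    0 < (Finset.univ.filter (dg (G := G) · = 16)).card)
  have e0 := T.rel θ (Finset.mem_filter.1 hθ).2 t (by rw [ht]; norm_num)
  rw [hu, hu, hu, u8 θ hθ] at e0
  have e0' : u T.b = u T.a - 1 := by
    have : (u T.b : ℂ) = u T.a - 1 := by push_cast at e0; linear_combination -e0
    exact_mod_cast this
  have e1 := pair_sum_zero ht2 ht2 T.nr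
  rw [T.split, Finset.sum_eq_zero fun χ hχ => by rw [hu, u8 χ hχ]; simp,
    Finset.sum_eq_zero fun χ hχ => by
      rw [van_of_dvd (p := 13) (by norm_num) (by rw [hn]; norm_num) (Finset.mem_filter.1 hχ).2
        (x := T.x) (by rw [T.hx])]; simp] at e1
  simp only [triv_apply, hu, u1, T.ax, T.bx, dg_cast, T.da, T.db, e0', dg_triv, map_one, map_neg]
    at e1
  have ua : u T.a = 4 := by
    have : ((u T.a : ℂ) - 4) * (5 * u T.a + 28) = 0 := by
      push_cast at e1; linear_combination (-108) * e1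
    have : (u T.a - 4) * (5 * u T.a + 28) = 0 := by exact_mod_cast this
    rcases mul_eq_zero.1 this with h | h <;> omega
  have ub : u T.b = 3 := by omega
  have e2 := col_sum (g := t) (h := 1) (v := fun χ => dg χ) hu (fun χ => by rw [dg_cast]; simp)
    (by simpa using ht1)
  have e3 := col_sq hu
  rw [T.split, Finset.sum_eq_zero fun χ hχ => by rw [u8 χ hχ]; simp] at e2 e3
  simp only [u1, T.da, T.db, dg_triv, ua, ub] at e2 e3
  have e6 := dvd_central T.b (hu T.b)
  have e7 := T.cen t ht1 (by rw [ht]; norm_num)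
  have e8 := (centralizer ({t} : Set G)).card_mul_index
  rw [hn] at e8
  rw [T.db, ub] at e6
  set c := Nat.card (centralizer ({t} : Set G))
  obtain ⟨j, hj⟩ : 9 ∣ (centralizer ({t} : Set G)).index := by omega
  have h3 : c * j = 624 := by rw [hj] at e8; linarith
  have h4 : c ∣ 48 := (Nat.Coprime.dvd_of_dvd_mul_left
    ((Nat.Prime.coprime_iff_not_dvd (by norm_num)).2 e7).symm (Dvd.intro _ h3 : c ∣ 13 * 48))
  have h5 := Nat.le_of_dvd (by norm_num) h4
  have h6 : 0 ≤ ∑ χ ∈ Finset.univ.filter (13 ∣ dg (G := G) ·), u χ ^ 2 :=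
    Finset.sum_nonneg fun _ _ => sq_nonneg _
  have h7 : 26 ≤ c := by omega
  have h8 : c = 48 := by interval_cases c <;> omega
  exact ⟨u, hu, u1, ua, ub, u8, h8, by omega, by omega⟩

theorem card_cent {t : G} (ht : orderOf t = 2) : Nat.card (centralizer ({t} : Set G)) = 48 := by
  obtain ⟨T⟩ := nonempty_tab hn
  obtain ⟨u, h⟩ := inv_col hn T ht
  exact h.2.2.2.2.2.1

theorem isConj_invol {t s : G} (ht : orderOf t = 2) (hs : orderOf s = 2) : IsConj t s := by
  classical
  obtain ⟨T⟩ := nonempty_tab hn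
  obtain ⟨u, h1, h2, h3, h4, h5, -, h6, -⟩ := inv_col hn T ht
  obtain ⟨v, k1, k2, k3, k4, k5, -, k6, -⟩ := inv_col hn T hs
  by_contra hc
  have e := col_sum h1 k1 hc
  rw [T.split, Finset.sum_eq_zero fun χ hχ => by rw [h5 χ hχ]; simp, h2, h3, h4, k2, k3, k4] at e
  have : 0 ≤ ∑ χ ∈ Finset.univ.filter (13 ∣ dg (G := G) ·), (u χ + v χ) ^ 2 :=
    Finset.sum_nonneg fun _ _ => sq_nonneg _
  rw [Finset.sum_congr rfl fun χ _ => add_sq (u χ) (v χ), Finset.sum_add_distrib,
    Finset.sum_add_distrib, h6, k6, Finset.sum_congr rfl fun χ _ => mul_assoc 2 (u χ) (v χ),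
    ← Finset.mul_sum] at this
  omega

theorem pairN_cases {t : G} (ht : orderOf t = 2) (h3 : 3 ∣ pairN t) : pairN t = 12 := by
  classical
  obtain ⟨T⟩ := nonempty_tab hn
  obtain ⟨u, hu, u1, ua, ub, u8, hc, e2, e3⟩ := inv_col hn T ht
  have ht2 : t * t = 1 := by rw [← sq, ← ht, pow_orderOf_eq_one]
  have e1 := sum_dg hn T
  have e4 := pairN_eq ht2 hu
  have hi : (centralizer ({t} : Set G)).index = 117 := by
    have := (centralizer ({t} : Set G)).card_mul_index
    rw [hc, hn] at this; omega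
  rw [T.split, Finset.sum_eq_zero fun χ hχ => by rw [u8 χ hχ]; simp, hi, hn, u1, ua, ub, T.da, T.db,
    dg_triv] at e4
  set R := Finset.univ.filter (13 ∣ dg (G := G) ·)
  have hT : ∀ χ ∈ R, (dg χ, u χ) ∈ [(13, 1), (13, -3), (26, 2), (26, -2), (39, -1), (39, 3), (52, 0),
      (52, 4), (52, -4)] := fun χ hχ => by
    have k1 : u χ ^ 2 ≤ 22 := e2 ▸ Finset.single_le_sum (f := fun χ => u χ ^ 2)
      (fun _ _ => sq_nonneg _) hχ
    have k2 : (dg χ : ℤ) ^ 2 ≤ 3718 := e1 ▸ Finset.single_le_sum (f := fun χ => (dg χ : ℤ) ^ 2)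
      (fun _ _ => sq_nonneg _) hχ
    obtain ⟨k, hk⟩ := (Finset.mem_filter.1 hχ).2
    have k3 := dg_pos χ
    obtain ⟨z, z1, z2, -⟩ := invol_val (hna_of (nc hn)) (χ := χ) (by omega) ht
    obtain rfl : z = u χ := by rw [hu] at z1; exact_mod_cast z1.symm
    have k4 : -4 ≤ u χ := by nlinarith
    have k5 : u χ ≤ 4 := by nlinarith
    rw [hk] at k2 k3 z2 ⊢
    have k6 : k ≤ 4 := by push_cast at k2; nlinarith
    generalize u χ = w at *
    interval_cases k <;> interval_cases w <;> first | omega | simp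
  have s1 := sum_types R _ _ (by decide) hT fun x : ℕ × ℤ => (x.1 : ℤ) ^ 2
  have s2 := sum_types R _ _ (by decide) hT fun x : ℕ × ℤ => x.2 ^ 2
  have s3 := sum_types R _ _ (by decide) hT fun x : ℕ × ℤ => x.2 * x.1
  have s4 := sum_types R _ _ (by decide) hT fun x : ℕ × ℤ => (x.2 : ℚ) ^ 3 / x.1
  rw [e1] at s1
  rw [e2] at s2
  rw [e3] at s3
  rw [s4] at e4
  simp only [List.map, List.sum_cons, List.sum_nil, nsmul_eq_mul] at s1 s2 s3 e4
  generalize (R.filter fun χ => (dg χ, u χ) = (13, 1)).card = n1 at *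
  generalize (R.filter fun χ => (dg χ, u χ) = (13, -3)).card = n2 at *
  generalize (R.filter fun χ => (dg χ, u χ) = (26, 2)).card = n3 at *
  generalize (R.filter fun χ => (dg χ, u χ) = (26, -2)).card = n4 at *
  generalize (R.filter fun χ => (dg χ, u χ) = (39, -1)).card = n5 at *
  generalize (R.filter fun χ => (dg χ, u χ) = (39, 3)).card = n6 at *
  generalize (R.filter fun χ => (dg χ, u χ) = (52, 0)).card = n7 at *
  generalize (R.filter fun χ => (dg χ, u χ) = (52, 4)).card = n8 at *
  generalize (R.filter fun χ => (dg χ, u χ) = (52, -4)).card = n9 at *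
  have e5 : (16 * pairN t + 81 * n2 + 12 * n4 + n5 + 48 * n9 : ℚ) =
      286 + 3 * n1 + 12 * n3 + 27 * n6 + 48 * n8 := by
    rw [e4]; push_cast; ring
  have e6 : 16 * pairN t + 81 * n2 + 12 * n4 + n5 + 48 * n9 =
      286 + 3 * n1 + 12 * n3 + 27 * n6 + 48 * n8 := by exact_mod_cast e5
  push_cast at s1 s2 s3
  omega

theorem three_cent {y : G} (hy : orderOf y = 3) {V : Subgroup G} (hV : Nat.card V = 4)
    (hVy : V ≤ centralizer ({y} : Set G)) : Nat.card (centralizer ({y} : Set G)) = 108 := by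
  classical
  haveI := Fintype.ofFinite V
  obtain ⟨T⟩ := nonempty_tab hn
  have hy1 : y ≠ 1 := fun e => by simp [e] at hy
  obtain ⟨w, hw⟩ := T.inta y
  have hb : (T.b : G → ℂ) y = 0 := van_of_pow_dvd (p := 3) (k := 3) (by norm_num)
    (by rw [hn]; norm_num) (by rw [T.db]; norm_num) (by rw [hy])
  have hθ : ∀ θ ∈ Finset.univ.filter (dg (G := G) · = 16), (θ : G → ℂ) y = ((1 - w : ℤ) : ℂ) :=
    fun θ hθ => by
      rw [T.rel θ (Finset.mem_filter.1 hθ).2 y (by rw [hy]; norm_num), hw, hb]; simp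
  obtain ⟨θ, hθ1⟩ := Finset.card_pos.1 (T.c16 ▸ by norm_num :
    0 < (Finset.univ.filter (dg (G := G) · = 16)).card)
  have hd := (Finset.mem_filter.1 hθ1).2
  have hz := hθ θ hθ1
  have h1 := modEq_of_val (irr_chr θ) (p := 3) (k := 1) (by norm_num)
    (by rw [pow_one, ← hy, pow_orderOf_eq_one]) hz
  change (dg θ : ℤ) ≡ _ [ZMOD _] at h1
  have h2 : 4 ∣ 1 - w := by
    have k1 := isCharacter_avg (irr_chr θ) V (zpowers y) (zpowers_le.2 fun v hv =>
      mem_centralizer_singleton_iff.1 (hVy hv)) (lam := fun _ => 1) H6.isCharacter_one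
    have k2 := H6.char_isIntegral k1 ⟨y, mem_zpowers y⟩
    simp only [map_one, mul_one] at k2
    rw [Finset.sum_eq_single (1 : V) (fun v _ hv => ?_) (by simp), hV] at k2
    · obtain ⟨k, hk⟩ := H8.exists_int_of_isIntegral_rat (q := (1 - w : ℤ) / 4) (by
        simp only [OneMemClass.coe_one, one_mul, hz] at k2
        convert k2 using 1
        push_cast; ring)
      refine ⟨k, ?_⟩
      rw [div_eq_iff (by norm_num), mul_comm] at hk
      exact_mod_cast hk
    · refine van_of_pow_dvd (p := 2) (k := 4) (by norm_num) (by rw [hn]; norm_num)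
        (by rw [hd]; norm_num) ?_
      have k3 : orderOf (v : G) ∣ 2 ^ 2 := by
        rw [orderOf_coe]; exact (show 4 = 2 ^ 2 from rfl) ▸ hV ▸ orderOf_dvd_natCard v
      have k4 : Commute (v : G) y := mem_centralizer_singleton_iff.1 (hVy v.2)
      rw [k4.orderOf_mul_eq_mul_orderOf_of_coprime (by
        rw [hy]; exact Nat.Coprime.coprime_dvd_left k3 (by norm_num))]
      obtain ⟨j, -, hj⟩ := (Nat.dvd_prime_pow Nat.prime_two).1 k3
      rcases j with _ | j
      · exact absurd (Subtype.ext (orderOf_eq_one_iff.1 hj)) hv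
      · rw [hj, pow_succ]; exact (dvd_mul_left _ _).mul_right _
  have h3 := H6.char_norm_le (irr_chr θ) y
  rw [hz, dg_cast, hd, Complex.norm_intCast] at h3
  have h4 : |1 - w| ≤ 16 := by
    have : ((|1 - w| : ℤ) : ℝ) ≤ 16 := by push_cast; simpa using h3
    exact_mod_cast this
  have h5 : 1 - w ≠ 16 := fun e => hy1 (eq_one_of_apply_eq (χ := θ)
    (fun e => by rw [e, dg_triv] at hd; omega) (by rw [hz, e, hd]; rfl))
  have h6 := dvd_central θ hz
  have h7 := T.cen y hy1 (by rw [hy]; norm_num)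
  have h8 := (centralizer ({y} : Set G)).card_mul_index
  have h9 : 1 + w ^ 2 + 4 * (1 - w) ^ 2 ≤ Nat.card (centralizer ({y} : Set G)) := by
    have e := congrArg Complex.re (H6.column_orthogonality_self y)
    simp only [Complex.mul_conj, Complex.re_sum, Complex.ofReal_re, Complex.natCast_re] at e
    rw [T.split, Finset.sum_congr rfl fun χ hχ => by rw [hθ χ hχ], Finset.sum_const, T.c16, hw, hb,
      triv_apply] at e
    have : 0 ≤ ∑ χ ∈ Finset.univ.filter (13 ∣ dg (G := G) ·), Complex.normSq ((χ : G → ℂ) y) :=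
      Finset.sum_nonneg fun _ _ => Complex.normSq_nonneg _
    simp only [Complex.normSq_intCast, map_one, map_zero, nsmul_eq_mul] at e
    have : ((1 + w ^ 2 + 4 * (1 - w) ^ 2 : ℤ) : ℝ) ≤ Nat.card (centralizer ({y} : Set G)) := by
      push_cast at e ⊢; nlinarith
    exact_mod_cast this
  rw [hn] at h8
  rw [hd] at h1 h6
  set c := Nat.card (centralizer ({y} : Set G))
  set i := (centralizer ({y} : Set G)).index
  have h10 : c ∣ 432 := (Nat.Coprime.dvd_of_dvd_mul_left
    ((Nat.Prime.coprime_iff_not_dvd (by norm_num)).2 h7).symm (Dvd.intro _ h8 : c ∣ 13 * 432))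
  rw [abs_le] at h4
  unfold Int.ModEq at h1
  obtain rfl | rfl : w = -3 ∨ w = 9 := by omega
  · obtain ⟨j, hj⟩ : 4 ∣ i := by omega
    have k1 : c * j = 1404 := by rw [hj] at h8; linarith
    have k2 : c ∣ 108 := (Nat.Coprime.dvd_of_dvd_mul_left
      ((Nat.Prime.coprime_iff_not_dvd (by norm_num)).2 h7).symm (Dvd.intro _ k1 : c ∣ 13 * 108))
    have k3 := Nat.le_of_dvd (by norm_num) k2
    have k4 : 74 ≤ c := by omega
    interval_cases c <;> omega
  · have k3 := Nat.le_of_dvd (by norm_num) h10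
    have k4 : 338 ≤ c := by omega
    have k5 : c = 432 := by interval_cases c <;> omega
    rw [k5] at h8
    omega

theorem no_four {y t u : G} (hy : orderOf y = 3) (ht : t * t = 1) (hu : u * u = 1)
    (h : u * t = t * u) (t1 : t ≠ 1) (u1 : u ≠ 1) (ut : u ≠ t) (ty : t * y = y * t)
    (uy : u * y = y * u) : False := by
  haveI : Fact (Nat.Prime 3) := ⟨by norm_num⟩
  obtain ⟨V, hV, mV⟩ := exists_V4 ht hu h t1 u1 ut
  set H := centralizer ({y} : Set G) with hH
  have hVH : V ≤ H := fun v hv => by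
    have a1 : t ∈ H := mem_centralizer_singleton_iff.2 ty
    have a2 : u ∈ H := mem_centralizer_singleton_iff.2 uy
    rcases (mV v).1 hv with rfl | rfl | rfl | rfl
    exacts [one_mem _, a1, a2, mul_mem a1 a2]
  have hV2 : ∀ v ∈ V, v * v = 1 := fun v hv => by
    rcases (mV v).1 hv with rfl | rfl | rfl | rfl
    exacts [one_mul 1, ht, hu, by rw [mul_assoc, ← mul_assoc u, h, mul_assoc, hu, mul_one, ht]]
  have hc := three_cent hn hy hV hVH
  obtain ⟨S⟩ : Nonempty (Sylow 3 H) := inferInstance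
  have hS : Nat.card (S : Subgroup H) = 27 :=
    H36.card_sylow_eq_pow S (k := 3) (by rw [hc]; norm_num) (by rw [hc]; norm_num)
  have hi : (S : Subgroup H).index = 4 := by
    have := (S : Subgroup H).card_mul_index
    rw [hS, hc] at this; omega
  have h1 : (S : Subgroup H).normalCore.index ∣ 24 := by
    rw [show 24 = (S : Subgroup H).index.factorial by rw [hi]; rfl, normalCore_eq_ker, index_ker,
      index_eq_card, ← Nat.card_perm]
    exact card_subgroup_dvd_card _
  have h2 := (S : Subgroup H).normalCore.card_mul_index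
  have h3 := card_dvd_of_le (S : Subgroup H).normalCore_le
  set K := (S : Subgroup H).normalCore.map H.subtype with hK
  have hKc : Nat.card K = Nat.card (S : Subgroup H).normalCore :=
    card_map_of_injective H.subtype_injective
  rw [hS, ← hKc] at h3
  rw [hc, ← hKc] at h2
  have hKp : IsPGroup 3 K := IsPGroup.of_card (n := _)
    ((Nat.dvd_prime_pow Nat.prime_three).1 (show _ ∣ 3 ^ 3 from h3)).choose_spec.2
  have h4 : K ≤ zpowers y := by
    refine H2.le_of_forall_centralizer_le (A := V)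
      (IsPGroup.isMulCommutative_of_card_eq_prime_sq (p := 2) hV) (fun hc => ?_) (fun v hv => ?_)
      (hV ▸ Nat.Coprime.coprime_dvd_right h3 (by norm_num)) fun v hv hv1 => ?_
    · obtain ⟨v, ho⟩ := hc.exists_ofOrder_eq_natCard
      rw [hV, ← orderOf_coe] at ho
      have := orderOf_dvd_of_pow_eq_one (show (v : G) ^ 2 = 1 by rw [sq, hV2 v v.2])
      rw [ho] at this; omega
    · refine mem_normalizer_fintype ?_
      rintro _ ⟨k, hk, rfl⟩
      exact ⟨_, (normalCore_normal _).conj_mem k hk ⟨v, hVH hv⟩, rfl⟩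
    · have a1 : orderOf v = 2 := orderOf_eq_prime (by rw [sq, hV2 v hv]) hv1
      have a2 : y ∈ centralizer ({v} : Set G) :=
        mem_centralizer_singleton_iff.2 (mem_centralizer_singleton_iff.1 (hVH hv)).symm
      have a3 : IsPGroup 3 (zpowers y) := IsPGroup.of_card (n := 1) (by rw [Nat.card_zpowers, hy]; rfl)
      have a4 : IsPGroup 3 (K ⊓ centralizer {v} ⊔ zpowers y : Subgroup G) := by
        refine IsPGroup.to_sup_of_normal_right' (hKp.to_inf_left) a3 fun k hk => ?_
        refine mem_normalizer_fintype ?_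
        rintro _ ⟨j, rfl⟩
        have : Commute k y := mem_centralizer_singleton_iff.1 (map_subtype_le _ hk.1)
        simp only
        rw [(this.zpow_right j).eq, mul_inv_cancel_right]
        exact zpow_mem (mem_zpowers y) j
      obtain ⟨j, hj⟩ := a4.exists_card_eq
      have a5 := card_dvd_of_le (sup_le (inf_le_right (a := K)) (zpowers_le.2 a2))
      rw [card_cent hn a1, hj] at a5
      have a6 : j ≤ 1 := by
        by_contra a7
        have := (pow_dvd_pow 3 (by omega : 2 ≤ j)).trans a5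
        omega
      refine le_sup_left.trans (eq_of_le_of_card_ge le_sup_right ?_).ge
      rw [hj, Nat.card_zpowers, hy]
      interval_cases j <;> norm_num
  have h5 := Nat.le_of_dvd Nat.card_pos (card_dvd_of_le h4)
  rw [Nat.card_zpowers, hy] at h5
  have h6 := Nat.le_of_dvd (by norm_num) h1
  nlinarith

theorem mem_pair {t u : G} (ht : orderOf t = 2) :
    IsConj t u ∧ IsConj t (u⁻¹ * t) ↔ u * t = t * u ∧ u * u = 1 ∧ u ≠ 1 ∧ u ≠ t := by
  have ht2 : t * t = 1 := by rw [← sq, ← ht, pow_orderOf_eq_one]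
  have h2 : ∀ u : G, IsConj t u ↔ u * u = 1 ∧ u ≠ 1 := fun u =>
    ⟨fun h => by
      obtain ⟨k, rfl⟩ := isConj_iff.mp h
      refine ⟨by rw [conj_mul, ht2]; simp, fun e => ?_⟩
      have := H35.orderOf_conj t k
      rw [e, ht] at this; simp at this,
    fun h => isConj_invol hn ht (orderOf_eq_prime (by rw [sq, h.1]) h.2)⟩
  refine ⟨fun h => ⟨pair_comm ht2 h.1 h.2, ((h2 u).1 h.1).1, ((h2 u).1 h.1).2, fun e => ?_⟩, ?_⟩
  · exact ((h2 _).1 h.2).2 (by rw [e, inv_mul_cancel])
  · rintro ⟨a1, a2, a3, a4⟩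
    rw [h2, h2, inv_eq_of_mul_eq_one_right a2]
    refine ⟨⟨a2, a3⟩, ?_, fun e => a4 ?_⟩
    · rw [mul_assoc, ← mul_assoc t, ← a1, mul_assoc, ht2, mul_one, a2]
    · rw [← mul_one u, ← ht2, ← mul_assoc, e, one_mul]

theorem pairN_eq_twelve {t : G} (ht : orderOf t = 2) : pairN t = 12 := by
  haveI : Fact (Nat.Prime 3) := ⟨by norm_num⟩
  have ht2 : t * t = 1 := by rw [← sq, ← ht, pow_orderOf_eq_one]
  obtain ⟨y, hy⟩ := exists_prime_orderOf_dvd_card' (G := centralizer ({t} : Set G)) 3
    (by rw [card_cent hn ht]; norm_num)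
  have hy' : orderOf (y : G) = 3 := by rw [orderOf_coe, hy]
  have hyt : (y : G) * t = t * y := mem_centralizer_singleton_iff.1 y.2
  refine pairN_cases hn ht ?_
  have h3 := H36.ncard_modEq_fixed_elt (p := 3) (n := 1) (u := MulAut.conj (y : G))
    (s := {u : G | IsConj t u ∧ IsConj t (u⁻¹ * t)})
    (by rw [pow_one, ← map_pow, ← hy', pow_orderOf_eq_one, map_one]) (fun u hu => by
      refine ⟨hu.1.trans (isConj_iff.2 ⟨y, rfl⟩), hu.2.trans (isConj_iff.2 ⟨y, ?_⟩)⟩
      change _ = ((y : G) * u * (y : G)⁻¹)⁻¹ * t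
      rw [← mul_assoc, mul_assoc _ t, ← (show Commute (y : G) t from hyt).inv_left.eq]; group)
  rw [Set.eq_empty_of_forall_notMem (s := {ω ∈ _ | _}) fun u hu => ?_, Set.ncard_empty] at h3
  · exact (Nat.modEq_zero_iff_dvd).1 h3
  · obtain ⟨a1, a2, a3, a4⟩ := (mem_pair hn ht).1 hu.1
    exact no_four hn hy' ht2 a2 a1 (fun e => by simp [e] at ht) a3 a4 hyt.symm
      (mul_inv_eq_iff_eq_mul.1 hu.2).symm

theorem exists_qd3 {t : G} (ht : orderOf t = 2) : ∃ ι : H52.G48 →* G, H52.QD3 ι := by
  classical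
  haveI := Fintype.ofFinite G
  have ht2 : t * t = 1 := by rw [← sq, ← ht, pow_orderOf_eq_one]
  have ht1 : t ≠ 1 := fun e => by simp [e] at ht
  have e := pairN_eq_twelve hn ht
  simp only [pairN, mem_pair hn ht] at e
  rw [Nat.card_eq_fintype_card, Fintype.card_subtype] at e
  set C := centralizer ({t} : Set G) with hC
  have mC : ∀ g : G, g ∈ C ↔ g * t = t * g := fun g => mem_centralizer_singleton_iff
  obtain ⟨ι, h1, h2⟩ := exists_G48 (C := C) (card_cent hn ht) (t := ⟨t, (mC t).mpr rfl⟩)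
    (fun x => Subtype.ext ((mC x).mp x.2)) (Subtype.ext ht2) (fun e => ht1 (congrArg Subtype.val e))
    (by
      rw [← Finset.card_image_of_injective _ Subtype.val_injective]
      have : (Finset.univ.filter fun x : C => x * x = 1).image Subtype.val = insert 1 (insert t
          (Finset.univ.filter fun u : G => u * t = t * u ∧ u * u = 1 ∧ u ≠ 1 ∧ u ≠ t)) := by
        ext u
        simp only [Finset.mem_image, Finset.mem_filter, Finset.mem_univ, true_and,
          Finset.mem_insert]
        constructor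
        · rintro ⟨x, hx, rfl⟩
          have := (mC x).mp x.2
          have := congrArg Subtype.val hx
          tauto
        · rintro (rfl | rfl | h)
          · exact ⟨1, one_mul 1, rfl⟩
          · exact ⟨⟨u, (mC u).mpr rfl⟩, Subtype.ext ht2, rfl⟩
          · exact ⟨⟨u, (mC u).mpr h.1⟩, Subtype.ext h.2.1, rfl⟩
      rw [this, Finset.card_insert_of_notMem (by simp [ht1.symm]),
        Finset.card_insert_of_notMem (by simp)]
      convert congrArg (· + 1 + 1) e)
    (fun P hP hN => by
      haveI : Fact (Nat.Prime 3) := ⟨by norm_num⟩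
      obtain ⟨y, hy⟩ := exists_prime_orderOf_dvd_card' (G := P) 3 hP.symm.dvd
      have hy' : orderOf ((y : C) : G) = 3 := by rwa [orderOf_coe, orderOf_coe]
      have a1 : (centralizer ({(y : C)} : Set C)).index ≤ 2 := by
        have b1 : MulAction.orbit (ConjAct C) (y : C) ⊆ (P : Set C) \ {1} := by
          rintro _ ⟨g, rfl⟩
          refine ⟨hN.conj_mem _ y.2 _, fun e => ?_⟩
          have : (y : C) = 1 := MulAction.injective g (Eq.trans e (smul_one g).symm)
          simp [this] at hy'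
        have b2 := Set.ncard_le_ncard b1
        rw [Set.ncard_diff_singleton_of_mem (by simp), ← MulAction.index_stabilizer,
          show (P : Set C).ncard = 3 from hP] at b2
        rw [centralizer_eq_comap_stabilizer]
        exact (index_comap_of_surjective _ ConjAct.toConjAct.surjective).le.trans b2
      have a2 := (centralizer ({(y : C)} : Set C)).card_mul_index
      have a3 := index_ne_zero_of_finite (H := centralizer ({(y : C)} : Set C))
      rw [card_cent hn ht] at a2
      have a4 : 8 ∣ Nat.card (centralizer ({((y : C) : G)} : Set G)) := by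
        refine (?_ : 8 ∣ Nat.card ((centralizer ({(y : C)} : Set C)).map C.subtype)).trans
          (card_dvd_of_le ?_)
        · rw [card_map_of_injective C.subtype_injective]
          generalize (centralizer ({(y : C)} : Set C)).index = i at *
          interval_cases i <;> omega
        · rintro _ ⟨g, hg, rfl⟩
          exact mem_centralizer_singleton_iff.2
            (congrArg Subtype.val (mem_centralizer_singleton_iff.1 hg))
      obtain ⟨V, hV⟩ := Sylow.exists_subgroup_card_pow_prime (n := 2) 2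
        ((show 2 ^ 2 ∣ 8 by norm_num).trans a4)
      rw [three_cent hn hy' (V := V.map (Subgroup.subtype _))
        (by rw [card_map_of_injective (subtype_injective _), hV]; rfl) (map_subtype_le _)] at a4
      omega)
  refine ⟨C.subtype.comp ι, ⟨C.subtype_injective.comp h1.1, fun g hg => ?_⟩⟩
  simp only [MonoidHom.comp_apply, h2, coe_subtype] at hg
  obtain ⟨x, hx⟩ := h1.2 ⟨g, (mC g).mpr hg⟩
  exact ⟨x, congrArg Subtype.val hx⟩

/-- a simple group of order 5616 is `PSL₃(3)` -/
theorem iso : Nonempty (G ≃* Matrix.ProjectiveSpecialLinearGroup (Fin 3) (ZMod 3)) := by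
  obtain ⟨t, ht⟩ := exists_prime_orderOf_dvd_card' (G := G) 2 (by rw [hn]; norm_num)
  obtain ⟨ι, h⟩ := exists_qd3 hn ht
  exact h.iso_PSL33 h.no_index_two hn

end L33

end H8.Dg
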