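import Mathlib
import Cfsg.Agent.Base
import Cfsg.Agent.Lib.Dg8.Chk
import Cfsg.Agent.Lib.Dg8.S5
import Cfsg.Agent.Lib.Deg.FS3
import Cfsg.Agent.Lib.Deg.Struct
import Cfsg.Agent.Lib.Deg.Taketa
import Cfsg.Agent.Lib.Perm29.AutAlt
import Cfsg.Agent.Lib.Core.CoprimeSylow
import Cfsg.Agent.Lib.H4.CITOrd
import Cfsg.Agent.S0494
import Cfsg.Agent.S0721

/-! Groups whose order is that of a small simple group and whose degree graph has enough vertices. -/

set_option autoImplicit false
set_option linter.unusedSectionVars false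

open Cfsg Subgroup

namespace H8.Dg

variable {G : Type*} [Group G] [Finite G]

def PL : List ℕ := [2, 3, 5, 7, 11, 13, 17, 19]

theorem pp_range {m r j : ℕ} (hr : r.Prime) (hj : 0 < j) (h : r ^ j ∣ m) (hm : m ∣ 698377680) :
    r ∈ PL ∧ j ∈ [1, 2, 3, 4] := by
  have h1 : r ∈ PL := by
    have := ((dvd_pow_self r hj.ne').trans h).trans hm
    rw [show 698377680 = 2 ^ 4 * 3 ^ 3 * 5 * 7 * 11 * 13 * 17 * 19 by norm_num] at this
    simp only [hr.dvd_mul] at this
    have k := fun q (hq : Nat.Prime q) => (Nat.prime_dvd_prime_iff_eq hr hq).1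
    simp only [PL, List.mem_cons, List.not_mem_nil, or_false]
    rcases this with ((((((h | h) | h) | h) | h) | h) | h) | h
    · simp [k 2 (by norm_num) (hr.dvd_of_dvd_pow h)]
    · simp [k 3 (by norm_num) (hr.dvd_of_dvd_pow h)]
    all_goals simp [k _ (by norm_num) h]
  refine ⟨h1, ?_⟩
  have h2 : ∀ r ∈ PL, ¬ r ^ 5 ∣ 698377680 := by decide
  have : ¬ 5 ≤ j := fun e => h2 r h1 (((pow_dvd_pow r e).trans h).trans hm)
  simp only [List.mem_cons, List.not_mem_nil, or_false]
  omega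

/-- no prime power dividing `m` is `1` modulo `p` -/
abbrev NoPP (p m : ℕ) : Prop := ∀ r ∈ PL, ∀ j ∈ [1, 2, 3, 4], r ^ j ∣ m → ¬ p ∣ r ^ j - 1

theorem exists_sylow_cent {p : ℕ} (hp : p.Prime) {x : G} (hx : orderOf x = p) {K : Subgroup G}
    (hK : x ∈ normalizer (K : Set G)) {r : ℕ} [hr : Fact r.Prime] {P : Subgroup G}
    (hP : H68.SylowIn r P K) (hxP : zpowers x ≤ normalizer (P : Set G)) (h1 : ¬ p ∣ Nat.card K)
    (h : ∀ j, 0 < j → r ^ j ∣ Nat.card K → ¬ p ∣ r ^ j - 1) : P ≤ centralizer {x} := by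
  haveI := Fact.mk hp
  obtain ⟨n, hn⟩ := hP.isPGroup.exists_card_eq
  have hd := card_dvd_of_le hP.le
  by_cases e : p = r
  · subst e
    rcases n with _ | n
    · rw [eq_bot_of_card_eq P hn]; exact bot_le
    · exact absurd ((dvd_pow_self p n.succ_ne_zero).trans (hn ▸ hd)) h1
  by_contra hc
  obtain ⟨i, i1, i2, i3⟩ := H4.exists_dvd_pow_sub_one e hn (hxP (mem_zpowers x)) (k := 1)
    (by rw [pow_one, ← hx, pow_orderOf_eq_one])
    (fun hh => hc fun y hy => mem_centralizer_singleton_iff.2 (hh y hy))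
  exact h i i1 ((pow_dvd_pow r i2).trans (hn ▸ hd)) i3

theorem cent_of_noPP {p : ℕ} (hp : p.Prime) {x : G} (hx : orderOf x = p) {K : Subgroup G}
    (hK : x ∈ normalizer (K : Set G)) (h1 : ¬ p ∣ Nat.card K) (hm : Nat.card K ∣ 698377680)
    (h : NoPP p (Nat.card K)) : K ≤ centralizer {x} := by
  refine H2.le_of_forall_invariant_sylowIn_le (A := zpowers x) (zpowers_le.2 hK)
    (by rw [Nat.card_zpowers, hx]; exact (Nat.Prime.coprime_iff_not_dvd hp).2 h1)
    (Or.inl inferInstance) fun r hr P h2 h3 => exists_sylow_cent hp hx hK h2 h3 h1 fun j a b => ?_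
  obtain ⟨c, d⟩ := pp_range hr.out a b hm
  exact h r c j d b

theorem not_mem_degreePrimes {r k : ℕ} (hr : r.Prime) (Z : Subgroup G) [Z.Normal]
    (hc : ∀ a ∈ Z, ∀ b ∈ Z, a * b = b * a) (h1 : r ^ k ∣ Nat.card Z) (h2 : ¬ r ^ (k + 1) ∣ Nat.card G) :
    r ∉ degreePrimes G := by
  rintro ⟨-, _, ⟨χ, rfl⟩, h⟩
  refine h2 ?_
  rw [← Z.card_mul_index, pow_succ]
  exact mul_dvd_mul h1 (h.trans (H87.deg_dvd_index_of_comm Z hc χ.2))

theorem pCore_eq_bot {p : ℕ} (h2 : ¬ p ^ 2 ∣ Nat.card G) (hv : p ∈ degreePrimes G) :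
    pCore p G = ⊥ := by
  haveI := Fact.mk hv.1
  obtain ⟨n, hn⟩ := (H1.isPGroup_pCore (p := p) (G := G)).exists_card_eq
  have hd := card_subgroup_dvd_card (pCore p G)
  rcases n with _ | _ | n
  · exact eq_bot_of_card_eq _ hn
  · haveI : IsCyclic (pCore p G) := isCyclic_of_prime_card (p := p) (by simpa using hn)
    exact absurd hv (not_mem_degreePrimes hv.1 (pCore p G) (fun a ha b hb => congrArg Subtype.val
      ((IsCyclic.isMulCommutative (α := pCore p G)).is_comm.comm ⟨a, ha⟩ ⟨b, hb⟩)) hn.symm.dvd h2)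
  · exact absurd ((pow_dvd_pow p (by omega)).trans (hn ▸ hd)) h2

/-- exceptional prime powers are full Sylow orders for the prime `r` -/
abbrev Exc (p r n : ℕ) : Prop :=
  ∀ q ∈ PL, ∀ j ∈ [1, 2, 3, 4], q ^ j ∣ n → p ∣ q ^ j - 1 → q = r ∧ ¬ q ^ (j + 1) ∣ n

theorem not_dvd_radical {p r : ℕ} (h2 : ¬ p ^ 2 ∣ Nat.card G) (hv : p ∈ degreePrimes G)
    (hr : r ∈ degreePrimes G) (hm : Nat.card G ∣ 698377680) (hex : Exc p r (Nat.card G)) :
    ¬ p ∣ Nat.card (solvableRadical G) := by
  have hp := hv.1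
  haveI := Fact.mk hp
  intro h
  obtain ⟨⟨x, hxR⟩, hx⟩ := exists_prime_orderOf_dvd_card' p h
  rw [← orderOf_coe] at hx
  simp only at hx
  have hx1 : x ^ p ^ 1 = 1 := by rw [pow_one, ← hx, pow_orderOf_eq_one]
  have hex' : ∀ q j, q.Prime → 0 < j → q ^ j ∣ Nat.card G → p ∣ q ^ j - 1 →
      q = r ∧ ¬ q ^ (j + 1) ∣ Nat.card G := fun q j a b c d =>
    hex q (pp_range a b c hm).1 j (pp_range a b c hm).2 c d
  have hb := pCore_eq_bot h2 hv
  have hF : fittingSubgroup G ≤ centralizer {x} := by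
    rw [H1.fitting_eq_iSup_pCore]
    refine iSup_le fun ⟨q, hq⟩ => ?_
    haveI := Fact.mk hq
    change pCore q G ≤ _
    by_cases e : p = q
    · subst e; rw [hb]; exact bot_le
    set Q := pCore q G
    have hQ : IsPGroup q Q := H1.isPGroup_pCore
    by_contra hc
    obtain ⟨n, hn⟩ := hQ.exists_card_eq
    have hd : q ^ n ∣ Nat.card G := hn ▸ card_subgroup_dvd_card Q
    set Z := Q ⊓ centralizer (Q : Set G) with hZ
    obtain ⟨k, hk⟩ := (hQ.to_inf_left (K := centralizer (Q : Set G))).exists_card_eq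
    by_cases hxZ : x ∈ centralizer (Z : Set G)
    · obtain ⟨m, hm'⟩ := (hQ.to_inf_left (K := centralizer {x})).exists_card_eq
      have a1 := H4.card_modEq_card_inf_centralizer (Q := Q) (q := p)
        (le_normalizer_of_normal (mem_top x) : x ∈ _) hx1
      rw [hn, hm'] at a1
      have a2 : m < n := by
        have := H3.card_lt_card_of_lt (lt_of_le_of_ne (inf_le_left : Q ⊓ centralizer {x} ≤ Q)
          fun e => hc (inf_eq_left.1 e))
        rw [hn, hm'] at this
        exact (Nat.pow_lt_pow_iff_right hq.one_lt).1 this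
      have a3 : 0 < m := by
        haveI : Nontrivial Q := Finite.one_lt_card_iff_nontrivial.1 (by
          rw [hn]; exact Nat.one_lt_pow (by omega) hq.one_lt)
        haveI := hQ.center_nontrivial
        obtain ⟨⟨z, hz⟩, hz1⟩ := exists_ne (1 : center Q)
        have b1 : (z : G) ∈ Z := ⟨z.2, fun y hy =>
          congrArg Subtype.val (mem_center_iff.1 hz ⟨y, hy⟩)⟩
        have b2 : (z : G) ∈ Q ⊓ centralizer {x} :=
          ⟨z.2, mem_centralizer_singleton_iff.2 (hxZ _ b1)⟩
        by_contra b3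
        obtain rfl : m = 0 := by omega
        rw [eq_bot_of_card_eq _ hm', mem_bot] at b2
        exact hz1 (Subtype.ext (Subtype.ext b2))
      obtain ⟨j, rfl⟩ := Nat.exists_eq_add_of_lt a2
      have a4 : p ∣ q ^ (j + 1) - 1 := by
        have := (Nat.modEq_iff_dvd' (Nat.pow_le_pow_right hq.pos a2.le)).1 a1.symm
        rw [add_assoc, pow_add, ← Nat.mul_sub_one] at this
        exact (Nat.Coprime.pow_right _ ((Nat.coprime_primes hp hq).2 e)).dvd_of_dvd_mul_left this
      exact (hex' q _ hq (by omega) ((pow_dvd_pow q (by omega)).trans hd) a4).2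
        ((pow_dvd_pow q (by omega)).trans hd)
    · obtain ⟨i, i1, i2, i3⟩ := H4.exists_dvd_pow_sub_one e hk
        (le_normalizer_of_normal (mem_top x) : x ∈ _) hx1 hxZ
      have a1 : q ^ i ∣ Nat.card Z := hk ▸ pow_dvd_pow q i2
      obtain ⟨rfl, a2⟩ := hex' q i hq i1 (a1.trans (card_subgroup_dvd_card _)) i3
      exact not_mem_degreePrimes hq Z (fun a ha b hb => hb.2 a ha.1) a1 a2 hr
  have h3 := H1.le_fitting_of_isSolvable_of_le_centralizer
    (solvableRadical G ⊓ centralizer (fittingSubgroup G : Set G))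
    (H1.isSolvable_of_le inferInstance inf_le_left) inf_le_right
    (mem_inf.2 ⟨hxR, fun y hy => mem_centralizer_singleton_iff.1 (hF hy)⟩)
  have h4 := H1.le_pCore_of_le_fitting (p := p) (P := zpowers x)
    (IsPGroup.of_card (n := 1) (by rw [Nat.card_zpowers, hx, pow_one])) (zpowers_le.2 h3)
  rw [hb, le_bot_iff, zpowers_eq_bot] at h4
  rw [h4, orderOf_one] at hx
  exact hp.one_lt.ne hx

theorem exists_simple_le (hR : solvableRadical G = ⊥) (hlt : Nat.card G < 6000)
    (h2 : ∀ s ∈ SO, ∀ s' ∈ SO, ¬ s * s' ∣ Nat.card G) (K : Subgroup G) [K.Normal] (hK : K ≠ ⊥) :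
    ∃ T : Subgroup G, T.Normal ∧ T ≤ K ∧ IsSimpleGroup T ∧ ¬ IsMulCommutative T := by
  obtain ⟨M, h1, h3, h4, h5⟩ := H1.exists_minimal_normal_le K hK
  obtain ⟨T, _, k, hT, hk, ⟨e⟩⟩ := Cfsg.Agent.S0721.result M h3 h5
  haveI : Finite (Fin k → T) := Finite.of_equiv _ e.toEquiv
  haveI : Finite T := Finite.of_injective (fun t (_ : Fin k) => t)
    (fun a b h => congrFun h ⟨0, hk⟩)
  have hM : ¬ IsMulCommutative M := fun hc => h3 (le_bot_iff.1 (hR ▸ H1.le_solvableRadical
    (Group.isSolvable_of_comm hc.is_comm.comm)))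
  have hc : ¬ IsMulCommutative T := fun hc => hM ⟨⟨fun a b => e.injective (by
    rw [map_mul, map_mul]; funext i; exact hc.is_comm.comm _ _)⟩⟩
  have h6 : Nat.card T ^ k ∣ Nat.card G := by
    rw [← Nat.card_fin k, ← Nat.card_fun, ← Nat.card_congr e.toEquiv]
    exact card_subgroup_dvd_card M
  have h7 := card_mem_SO hc (lt_of_le_of_lt (Nat.le_of_dvd Nat.card_pos
    ((dvd_pow_self _ hk.ne').trans h6)) hlt)
  obtain rfl : k = 1 := by
    by_contra h8
    exact h2 _ h7 _ h7 (by rw [← sq]; exact (pow_dvd_pow _ (by omega)).trans h6)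
  exact ⟨M, h1, h4, (e.trans (MulEquiv.piUnique _)).isSimpleGroup, hM⟩

theorem exists_socle [Nontrivial G] (hR : solvableRadical G = ⊥) (hlt : Nat.card G < 6000)
    (h2 : ∀ s ∈ SO, ∀ s' ∈ SO, ¬ s * s' ∣ Nat.card G) :
    ∃ T : Subgroup G, T.Normal ∧ IsSimpleGroup T ∧ ¬ IsMulCommutative T ∧
      centralizer (T : Set G) = ⊥ := by
  obtain ⟨T, h1, -, h3, h4⟩ := exists_simple_le hR hlt h2 ⊤ top_ne_bot
  refine ⟨T, h1, h3, h4, ?_⟩
  by_contra hc
  obtain ⟨U, k1, k2, k3, k4⟩ := exists_simple_le hR hlt h2 _ hc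
  have hd : U ⊓ T = ⊥ := by
    rcases IsSimpleGroup.eq_bot_or_eq_top_of_normal (T.subgroupOf U) inferInstance with e | e
    · rw [subgroupOf_eq_bot, disjoint_iff, inf_comm] at e; exact e
    · rw [subgroupOf_eq_top] at e
      exact absurd ⟨⟨fun a b => Subtype.ext (k2 b.2 a (e a.2))⟩⟩ k4
  have hlt' : ∀ V : Subgroup G, Nat.card V < 6000 := fun V =>
    lt_of_le_of_lt (Nat.le_of_dvd Nat.card_pos (card_subgroup_dvd_card V)) hlt
  refine h2 _ (card_mem_SO h4 (hlt' T)) _ (card_mem_SO k4 (hlt' U)) ?_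
  rw [← H2.card_sup_of_le_normalizer (le_normalizer_of_normal) hd]
  exact card_subgroup_dvd_card _

theorem dvd_socle {T : Subgroup G} [T.Normal] (hC : centralizer (T : Set G) = ⊥) {p : ℕ}
    (hp : p.Prime) (h : p ∣ Nat.card G) (hm : Nat.card T ∣ 698377680) (h1 : NoPP p (Nat.card T)) :
    p ∣ Nat.card T := by
  haveI := Fact.mk hp
  by_contra h2
  obtain ⟨x, hx⟩ := exists_prime_orderOf_dvd_card' p h
  have h3 := cent_of_noPP hp hx (K := T) (le_normalizer_of_normal (mem_top x)) h2 hm h1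
  have : x ∈ centralizer (T : Set G) := fun y hy => mem_centralizer_singleton_iff.1 (h3 hy)
  rw [hC, mem_bot] at this
  rw [this, orderOf_one] at hx
  exact hp.one_lt.ne hx

theorem simple_of_card {R : Subgroup G} [R.Normal] (T : Subgroup (G ⧸ R)) [IsSimpleGroup T]
    (h : Nat.card T = Nat.card G) : IsSimpleGroup G := by
  have h1 := R.card_mul_index
  have h2 := T.card_mul_index
  rw [← index_eq_card, h] at h2
  have h3 : Nat.card R * T.index = 1 := Nat.eq_of_mul_eq_mul_left (Nat.card_pos (α := G)) (by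
    rw [mul_left_comm, h2, h1, mul_one])
  obtain rfl := eq_bot_of_card_eq R (Nat.eq_one_of_mul_eq_one_right h3)
  obtain rfl := index_eq_one.1 (Nat.eq_one_of_mul_eq_one_left h3)
  exact (QuotientGroup.quotientBot.symm.trans topEquiv.symm).isSimpleGroup

theorem exists_deg_of_section {R : Subgroup G} [R.Normal] (T : Subgroup (G ⧸ R)) [T.Normal] {r : ℕ}
    (h : ∃ d ∈ charDegrees T, r ∣ d) : ∃ d ∈ charDegrees G, r ∣ d := by
  obtain ⟨_, ⟨θ, rfl⟩, h⟩ := h
  obtain ⟨χ, h1, h2⟩ := H87.exists_deg_dvd T θ.2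
  exact ⟨_, H87.charDegrees_quotient_subset R (H87.mem_charDegrees h1), h.trans h2⟩

theorem not_socle_360 {T : Subgroup G} [T.Normal] [IsSimpleGroup T] (hT : ¬ IsMulCommutative T)
    (hC : centralizer (T : Set G) = ⊥) (h : 7 ∣ Nat.card G) : Nat.card T ≠ 360 := by
  intro hn
  haveI : Fact (Nat.Prime 3) := ⟨by norm_num⟩
  obtain ⟨x, hx⟩ := exists_prime_orderOf_dvd_card' 7 h
  have hK : x ∈ normalizer (T : Set G) := le_normalizer_of_normal (mem_top x)
  set K := (centralizer ({x} : Set G)).subgroupOf T with hKd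
  have key : ∀ (r k : ℕ) [Fact r.Prime], r ^ k ∣ 360 → (∀ j, 0 < j → r ^ j ∣ 360 → ¬ 7 ∣ r ^ j - 1) →
      r ^ k ∣ Nat.card K := fun r k hr h1 h2 => by
    obtain ⟨P, a1, a2⟩ := H2.exists_invariant_sylowIn (A := zpowers x) (zpowers_le.2 hK)
      (by rw [Nat.card_zpowers, hx, hn]; norm_num) (Or.inl inferInstance) r
    have a3 := exists_sylow_cent (by norm_num) hx hK a1 a2 (by rw [hn]; norm_num) (hn ▸ h2)
    refine (a1.toSylow.pow_dvd_card_of_pow_dvd_card (hn ▸ h1)).trans (card_dvd_of_le ?_)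
    exact fun y hy => a3 hy
  have h9 := key 3 2 (by norm_num) fun j a b => by
    have := (pp_range Nat.prime_three a b (by norm_num)).2
    clear a; revert b; revert this; revert j; decide
  have h5 := key 5 1 (by norm_num) fun j a b => by
    have := (pp_range Nat.prime_five a b (by norm_num)).2
    clear a; revert b; revert this; revert j; decide
  have hKt : K ≠ ⊤ := fun e => by
    rw [hKd, subgroupOf_eq_top] at e
    have : x ∈ centralizer (T : Set G) := fun y hy => mem_centralizer_singleton_iff.1 (e hy)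
    rw [hC, mem_bot] at this
    rw [this, orderOf_one] at hx
    omega
  have h1 := H36.two_mul_card_dvd_factorial hT hKt
  have h2 := K.card_mul_index
  rw [hn] at h1 h2
  obtain ⟨w, hw⟩ : 45 ∣ Nat.card K := by omega
  have h3 : w * K.index = 8 := by rw [hw] at h2; linarith
  have h4 : Nat.card K = 45 := by
    have := Nat.le_of_dvd (by norm_num) (Dvd.intro_left _ h3)
    generalize K.index = i at *
    interval_cases i <;> first | omega | exact absurd h1 (by decide)
  obtain ⟨Q⟩ : Nonempty (Sylow 5 K) := inferInstance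
  have hQ : Nat.card (Q : Subgroup K) = 5 :=
    H36.card_sylow_eq_pow Q (k := 1) (by rw [h4]; norm_num) (by rw [h4]; norm_num)
  have hi : (Q : Subgroup K).index = 9 := by
    have := card_mul_index (Q : Subgroup K)
    rw [hQ, h4] at this
    omega
  have h6 : Nat.card (Sylow 5 K) = 1 := by
    have b1 := Q.card_dvd_index
    have b2 := card_sylow_modEq_one 5 K
    rw [hi] at b1
    have := Nat.le_of_dvd (by norm_num) b1
    unfold Nat.ModEq at b2
    generalize Nat.card (Sylow 5 K) = m at *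
    interval_cases m <;> omega
  haveI : Subsingleton (Sylow 5 K) := (Nat.card_eq_one_iff_unique.1 h6).1
  haveI := Q.normal_of_subsingleton
  obtain ⟨y, hy⟩ := exists_prime_orderOf_dvd_card' (G := K) 3 (by omega)
  have h7 := cent_of_noPP Nat.prime_three hy (K := Q) (le_normalizer_of_normal (mem_top y))
    (by rw [hQ]; norm_num) (by rw [hQ]; norm_num) (by rw [hQ]; decide)
  obtain ⟨g, g1, g2⟩ := H17.Ord.exists_bising (p := 5) (q := 3) (by norm_num) hQ
    (hy ▸ orderOf_dvd_natCard _ (fun z hz => mem_centralizer_singleton_iff.1 (h7 hz)))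
  rw [← orderOf_coe] at g1 g2
  exact H4.Sv.no_bising hT 5 (by norm_num) (by norm_num) (by rw [hn]; norm_num)
    (by rw [hn]; norm_num) 3 (by norm_num) (by norm_num) (by rw [hn]; decide +kernel) g g2 g1

theorem card_eq_sixty {T : Subgroup G} [T.Normal] [IsSimpleGroup T] (hT : Nat.card T = 60)
    (hC : centralizer (T : Set G) = ⊥) (h6 : 6 ∉ charDegrees G) : T = ⊤ := by
  obtain ⟨e⟩ := Cfsg.Agent.S0494.result hT
  let e' := MulEquiv.ofBijective _ (H29.conjNormal_alt_bijective (α := Fin 5) (by simp) (by simp))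
  let f : G →* Equiv.Perm (Fin 5) :=
    ((MulAut.congr e).trans e'.symm).toMonoidHom.comp (MulAut.conjNormal (H := T))
  have hf : Function.Injective f := by
    refine ((MulAut.congr e).trans e'.symm).injective.comp
      ((injective_iff_map_eq_one _).2 fun g hg => ?_)
    rw [← mem_bot, ← hC]
    exact fun y hy => (mul_inv_eq_iff_eq_mul.1
      (congrArg (fun φ : MulAut T => (φ ⟨y, hy⟩).1) hg)).symm
  have h1 := card_dvd_of_injective f hf
  have h2 := T.card_mul_index
  have h3 : Nat.card (Equiv.Perm (Fin 5)) = 120 := by rw [Nat.card_perm, Nat.card_fin]; rfl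
  rw [h3] at h1
  rw [hT] at h2
  by_contra h4
  have h5 := one_lt_index_of_ne_top h4
  have h7 := Nat.le_of_dvd (by norm_num) h1
  letI := Fintype.ofFinite G
  refine h6 ?_
  rw [H8.Deg.charDegrees_congr (MulEquiv.ofBijective f
    ((Nat.bijective_iff_injective_and_card f).2 ⟨hf, by omega⟩))]
  exact six_mem

theorem not_360 (hn : Nat.card G = 360) (R : Subgroup G) [R.Normal] [IsSimpleGroup (G ⧸ R)]
    (hR : Nat.card R = 6) (h6 : ¬ ∃ d ∈ charDegrees G, 6 ∣ d) : ¬ ∃ d ∈ charDegrees G, 10 ∣ d := by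
  have hi : Nat.card (G ⧸ R) = 60 := by
    have := R.card_mul_index
    rw [hn, hR, index_eq_card] at this; omega
  obtain ⟨x, hx⟩ := exists_prime_orderOf_dvd_card' (G := G) 5 (by omega)
  have h1 := cent_of_noPP Nat.prime_five hx (K := R) (le_normalizer_of_normal (mem_top x))
    (by omega) (by rw [hR]; norm_num) (by rw [hR]; decide)
  set C := centralizer (R : Set G) with hC
  have hxC : x ∈ C := fun y hy => mem_centralizer_singleton_iff.1 (h1 hy)
  have h2 : C.map (QuotientGroup.mk' R) = ⊤ := by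
    refine (IsSimpleGroup.eq_bot_or_eq_top_of_normal _
      (Normal.map inferInstance _ (QuotientGroup.mk'_surjective R))).resolve_left fun e => ?_
    rw [Subgroup.map_eq_bot_iff, QuotientGroup.ker_mk'] at e
    have := Subgroup.orderOf_dvd_natCard _ (e hxC)
    rw [hx, hR] at this
    omega
  have h3 : ∀ g : G, ∃ c ∈ C, ∃ r ∈ R, g = c * r := fun g => by
    obtain ⟨c, hc, e⟩ := h2.ge (mem_top (g : G ⧸ R))
    exact ⟨c, hc, c⁻¹ * g, QuotientGroup.eq.1 e, by group⟩
  by_cases hc : IsMulCommutative R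
  · rintro ⟨_, ⟨χ, rfl⟩, h⟩
    have h4 := H87.deg_sq_le_index χ.2 (Z := R) fun z hz => H87.norm_eq_of_mem_center χ.2
      (mem_center_iff.2 fun g => by
        obtain ⟨c, a1, r, a2, rfl⟩ := h3 g
        have a3 : r * z = z * r := congrArg Subtype.val (hc.is_comm.comm (⟨r, a2⟩ : R) ⟨z, hz⟩)
        rw [mul_assoc, a3, ← mul_assoc, ← a1 z hz, mul_assoc])
    rw [index_eq_card, hi] at h4
    have := Nat.le_of_dvd (H87.deg_pos χ.2) h
    nlinarith
  exfalso
  have h4 : center R = ⊥ := by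
    have a1 := (center R).card_mul_index
    rw [hR] at a1
    by_contra a2
    have a3 := (one_lt_card_iff_ne_bot _).2 a2
    have a4 : IsCyclic (R ⧸ center R) := by
      have : (center R).index ∣ 6 := Dvd.intro_left _ a1
      have a5 : (center R).index ≤ 3 := by nlinarith
      rw [index_eq_card] at this a5
      generalize hk : Nat.card (R ⧸ center R) = k at *
      interval_cases k
      · omega
      · haveI := (Nat.card_eq_one_iff_unique.1 hk).1; infer_instance
      · exact isCyclic_of_prime_card (p := 2) hk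
      · haveI : Fact (Nat.Prime 3) := ⟨by norm_num⟩
        exact isCyclic_of_prime_card (p := 3) hk
    exact hc ⟨⟨commutative_of_cyclic_center_quotient (QuotientGroup.mk' (center R)) (by simp)⟩⟩
  have h5 : ∀ r ∈ R, r ∈ C → r = 1 := fun r a1 a2 => by
    have : (⟨r, a1⟩ : R) ∈ center R := mem_center_iff.2 fun g => Subtype.ext (a2 g g.2)
    rw [h4, mem_bot] at this
    exact congrArg Subtype.val this
  obtain ⟨β, b1, b2⟩ : ∃ β, IsIrrCharacter (G ⧸ C) β ∧ charDegree β ≠ 1 := by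
    by_contra hh
    push Not at hh
    refine hc ⟨⟨fun a b => Subtype.ext ?_⟩⟩
    have := H87.comm_of_forall_deg_eq_one hh ((a : G) : G ⧸ C) (b : G)
    rw [← QuotientGroup.mk_mul, ← QuotientGroup.mk_mul, QuotientGroup.eq] at this
    exact inv_mul_eq_one.1 (h5 _ (mul_mem (inv_mem (mul_mem a.2 b.2)) (mul_mem b.2 a.2)) this)
  have b3 : charDegree β = 2 := by
    have a1 := H87.deg_sq_le_card b1
    have a2 := H87.deg_pos b1
    have a3 : Nat.card (G ⧸ C) ≤ Nat.card R :=
      Nat.card_le_card_of_surjective (fun r : R => ((r : G) : G ⧸ C)) fun q => by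
        obtain ⟨g, rfl⟩ := QuotientGroup.mk_surjective q
        obtain ⟨c, c1, r, c2, rfl⟩ := h3 g
        refine ⟨⟨r, c2⟩, ?_⟩
        simp only [QuotientGroup.mk_mul, (QuotientGroup.eq_one_iff c).2 c1, one_mul]
    have : charDegree β < 3 := by nlinarith
    omega
  obtain ⟨_, ⟨ψ, rfl⟩, h7⟩ := exists_deg (G := G ⧸ R)
    (H36.not_comm_of_not_prime (by rw [hi]; norm_num)) hi 5 3 (by norm_num) (by decide +kernel)
  have h8 := H87.exists_deg_eq_mul_of_res (N := C) (H87.isIrr_infl R ψ.2)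
    (H6.isIrrCharacter_comp_surjective ((QuotientGroup.mk' R).comp C.subtype) (fun q => by
      obtain ⟨c, hc, e⟩ := h2.ge (mem_top q)
      exact ⟨⟨c, hc⟩, e⟩) ψ.2) (H87.isIrr_infl C b1) (H87.le_charKer_infl C β)
  refine h6 ⟨_, H87.mem_charDegrees h8.1, ?_⟩
  rw [h8.2, H87.deg_infl, H87.deg_infl, b3]
  exact mul_dvd_mul_left 2 h7

end H8.Dg
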